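import Cfsg.Agent.MK.P.Defs
import Cfsg.Agent.MK.T.C
import Cfsg.Agent.H158.PronFrame
import Cfsg.Agent.H158.PronSp

/-!
# MK-P: the normaliser of a Sylow `2`-subgroup of `PSp_{2n}(q)` is monomial (helper75)
-/

set_option autoImplicit false
set_option linter.unusedSectionVars false

namespace Cfsg.Agent.MK.P

open Cfsg Subgroup Equiv Cfsg.Agent.MK.T Quaternion Matrix
open Cfsg.Agent.H158 Cfsg.Agent.H158.PronQ Cfsg.Agent.H158.PronMat Cfsg.Agent.H158.PronMono Cfsg.Agent.H158.PronM2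
  Cfsg.Agent.H158.PronFrame

section

variable {F : Type} [Field F]

theorem two_ne_of_odd [Fintype F] (h : Odd (Fintype.card F)) : (2 : F) ≠ 0 :=
  Ring.two_ne_zero fun h1 => by
    have h2 := FiniteField.even_card_of_char_two h1
    have h3 := Nat.odd_iff.1 h
    omega

theorem uI_sq : (uI : U F) * uI = nu := Subtype.ext qi_mul_qi

theorem two_of_norm {G : Type} [Group G] {S : Subgroup G} (hS : IsPGroup 2 S) {g : G} (hg : g ∈ normalizer (S : Set G))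
    {k : ℕ} (hk : g ^ 2 ^ k = 1) : IsPGroup 2 (zpowers g ⊔ S : Subgroup G) := by
  refine IsPGroup.to_sup_of_normal_right' (fun x => ?_) hS (zpowers_le.2 hg)
  obtain ⟨_, m, rfl⟩ := x
  refine ⟨k, Subtype.ext ?_⟩
  change (g ^ m) ^ 2 ^ k = 1
  rw [← _root_.zpow_natCast, ← _root_.zpow_mul, mul_comm, _root_.zpow_mul, _root_.zpow_natCast, hk, _root_.one_zpow]

theorem exists_sylow_SG [Finite F] {n : Type} [Fintype n] [DecidableEq n] (h2 : (2 : F) ≠ 0) (T : Sylow 2 (Perm n)) :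
    ∃ S : Sylow 2 (PronMat.GU n F), ∀ g ∈ normalizer ((S : Subgroup (PronMat.GU n F)) : Set (PronMat.GU n F)),
      ∃ σ ∈ (T : Subgroup (Perm n)), Mono g.1 σ := by
  have := two_prime
  obtain ⟨W, hW⟩ := (Q8_isPGroup (F := F)).exists_le_sylow
  have hw : ∃ w₀ ∈ (W : Subgroup (U F)), w₀ * w₀ = nu := ⟨uI, hW uI_mem, uI_sq⟩
  have hS := SG_isPGroup W.isPGroup' T.isPGroup'
  obtain ⟨S, h⟩ := exists_sylow_eq (SG (W : Subgroup (U F)) (T : Subgroup (Perm n))) hS (by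
    rintro g hg ⟨k, hk⟩
    have h1 := mem_normalizer_fintype hg
    obtain ⟨σ, hσ, h3, -⟩ := norm_mono h2 T hw h1
    have h4 : (PM σ⁻¹ : PronMat.GU n F) ∈ SG (W : Subgroup (U F)) (T : Subgroup (Perm n)) := PM_mem _ (inv_mem hσ)
    obtain ⟨m, hm⟩ := two_of_norm hS h1 hk ⟨PM σ⁻¹ * g, mul_mem (mem_sup_right h4) (mem_sup_left (mem_zpowers g))⟩
    have h5 : Mono (PM σ⁻¹ * g : PronMat.GU n F).1 1 := inv_mul_cancel σ ▸ (PM_mono σ⁻¹).mul h3
    obtain ⟨τ, -, h6, h7⟩ := norm_mono h2 T hw (mul_mem (le_normalizer h4) h1)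
    obtain rfl := h5.unique h6
    refine (mul_mem_cancel_left h4).1 ⟨1, one_mem _, h5, fun b => ?_⟩
    obtain ⟨u, hu⟩ := h5.entry b
    have h8 : ∀ j : ℕ, ((u ^ j : U F) : ℍ[F]) = ((PM σ⁻¹ * g : PronMat.GU n F) ^ j).1 b b := fun j => by
      induction j with
      | zero => simp
      | succ j ih =>
        rw [pow_succ, pow_succ, Submonoid.coe_mul, Submonoid.coe_mul, h5.mul_apply, ih, hu]
        rfl
    have h9 : u ^ 2 ^ m = 1 := Subtype.ext (by
      rw [h8, show (PM σ⁻¹ * g : PronMat.GU n F) ^ 2 ^ m = 1 from congrArg Subtype.val hm]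
      simp)
    refine ⟨u, ?_, hu⟩
    rw [← W.3 (two_of_norm W.2 (mem_normalizer_fintype (h7 b u hu)) h9) le_sup_right]
    exact mem_sup_left (mem_zpowers u))
  refine ⟨S, fun g hg => ?_⟩
  rw [h] at hg
  obtain ⟨σ, h3, h4, -⟩ := norm_mono h2 T hw hg
  exact ⟨σ, h3, h4⟩

theorem exists_jI {k : ℕ} {a b : F} (hab : a * a + b * b = -1) {g : PronMat.GU (Fin k) F} {σ : Perm (Fin k)} (h : Mono g.1 σ) :
    ∃ w : Wr (ODD.PS.C3.S2 F) (Fin k), w.right = σ ∧ TitsThree.SpIdent.toSp (jI k w) = PronSp.toSp hab g := by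
  have h1 : ∀ c, (toM a b (g.1 c (σ⁻¹ c))).det = 1 := fun c => by
    obtain ⟨u, hu⟩ := h.entry (σ⁻¹ c)
    rw [show σ (σ⁻¹ c) = c by simp] at hu
    rw [det_toM hab, ← hu, normSq_U]
  refine ⟨⟨fun c => ⟨!![toM a b (g.1 c (σ⁻¹ c)) 1 1, toM a b (g.1 c (σ⁻¹ c)) 1 0;
    toM a b (g.1 c (σ⁻¹ c)) 0 1, toM a b (g.1 c (σ⁻¹ c)) 0 0], ?_⟩, σ⟩, rfl, Subtype.ext ?_⟩
  · rw [det_fin_two_of, ← h1 c, det_fin_two]
    ring
  · rw [← Matrix.mulVec_injective.eq_iff]
    funext v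
    rw [TitsThree.SpIdent.toSp_mulVec, jI_apply]
    have h2 : ∀ (i j : Fin 2) (x : Fin k → F) (c : Fin k),
        ((g.1.map fun q => toM a b q i j) *ᵥ x) c = toM a b (g.1 c (σ⁻¹ c)) i j * x (σ⁻¹ c) := fun i j x c => by
      refine Finset.sum_eq_single (σ⁻¹ c) (fun d _ hd => ?_) fun hc => absurd (Finset.mem_univ _) hc
      have h3 : toM a b 0 = 0 := by
        ext i j
        fin_cases i <;> fin_cases j <;> simp [toM]
      change toM a b (g.1 c d) i j * x d = 0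
      rw [h c d fun e => hd (by simp [e]), h3, Matrix.zero_apply, zero_mul]
    change _ = PronSp.Th a b g.1 *ᵥ v
    rw [PronSp.Th, fromBlocks_mulVec]
    funext j
    rcases j with c | c
    · rw [Sum.elim_inl, Pi.add_apply, h2, h2, add_comm]
      rfl
    · rw [Sum.elim_inr, Pi.add_apply, h2, h2, add_comm]
      rfl

end

theorem nq : NQ := by
  intro F _ _ k T ho
  have := two_prime
  have h2 := two_ne_of_odd ho
  obtain ⟨a, b, hab⟩ := exists_sq_add_sq (-1 : F)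
  obtain ⟨S, hS⟩ := exists_sylow_SG h2 T
  let φ : PronMat.GU (Fin k) F →* PSp k F := (QuotientGroup.mk' _).comp (PronSp.toSp hab)
  have hφ : Function.Surjective φ := (QuotientGroup.mk'_surjective _).comp (PronSp.toSp_surjective hab h2)
  refine ⟨S.mapSurjective hφ, ?_⟩
  rw [Sylow.coe_mapSurjective, ← map_normalizer φ hφ]
  rintro _ ⟨g, hg, rfl⟩
  obtain ⟨σ, h3, h4⟩ := hS g hg
  obtain ⟨w, h5, h6⟩ := exists_jI hab h4
  exact ⟨w, mem_WT.2 (h5 ▸ h3), congrArg QuotientGroup.mk h6⟩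

end Cfsg.Agent.MK.P
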