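import Cfsg.Agent.MK.P.W
import Cfsg.Agent.MK.P.NQ
import Cfsg.Agent.MK.T.B
import Cfsg.Agent.ODD.PS.SL2
import Cfsg.Agent.ClassicalGeometry.SympAutRecog
import Cfsg.Agent.ClassicalGeometry.SympAutExists
import Cfsg.Agent.LieRecognition.FieldSemilinear
import Cfsg.Agent.Lib.FieldAutCard
import Cfsg.Agent.S0270

/-!
# MK-P: the case P from the global side (helper75)

* `s4` : the characters of odd degree of `SL₂(q)`, `q ≡ 3 mod 4`;
* `alt` : the alternative for groups of automorphisms of `PSp_{2n}(q)`;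
* `caseP_of`.
-/

set_option autoImplicit false
set_option linter.unusedSectionVars false

namespace Cfsg.Agent.MK.P

open Cfsg Subgroup Equiv Cfsg.Agent.MK.T Cfsg.Agent.Characters.Core Cfsg.Agent.ODD.Red
open Cfsg.Agent.ClassicalGeometry.SympBasic Cfsg.Agent.ClassicalGeometry.SympAutSemi
  Cfsg.Agent.ClassicalGeometry.SympGamma Cfsg.Agent.H670.SL2 Cfsg.Agent.ODD.PS.C3 Cfsg.Agent.TitsThree.SpIdent

section field

variable {F : Type} [Field F] [Fintype F]

theorem isSquare_mul {a b : F} (h : IsSquare a ↔ IsSquare b) : IsSquare (a * b) := by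
  classical
  by_cases ha : IsSquare a
  · exact ha.mul (h.1 ha)
  · have hb : ¬ IsSquare b := fun hb => ha (h.2 hb)
    refine (quadraticChar_one_iff_isSquare (mul_ne_zero (fun e => ha (by simp [e])) fun e => hb (by simp [e]))).1 ?_
    rw [map_mul, quadraticChar_neg_one_iff_not_isSquare.2 ha, quadraticChar_neg_one_iff_not_isSquare.2 hb]
    norm_num

theorem odd_aut (h : Fintype.card F % 4 = 3) : Odd (Nat.card (F ≃+* F)) := by
  obtain ⟨p, hp⟩ := CharP.exists F
  obtain ⟨n, h1, h2⟩ := FiniteField.card F p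
  have := Fact.mk h1
  rw [Lib.FieldAutCard.card_ringAut n.pos h2, ← Nat.not_even_iff_odd]
  rintro ⟨m, hm⟩
  rw [h2, hm, pow_add, Nat.mul_mod] at h
  have h3 : p ^ m % 4 < 4 := Nat.mod_lt _ (by norm_num)
  generalize p ^ m % 4 = r at h h3
  interval_cases r <;> simp at h

end field

theorem s4 : S4 := by
  classical
  intro F _ _ hq
  have ho : Odd (Fintype.card F) := Nat.odd_iff.2 (by omega)
  refine ⟨?_, fun χ hχ => ⟨?_, fun σ => congrFun (ODD.PS.S2.eq_of_x ho hχ.1 (oi_equiv (f2 F σ) hχ).1 hχ.2 fun s => ?_)⟩⟩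
  · obtain ⟨nu, hnu⟩ := exists_not_square ho
    obtain ⟨m, hm⟩ : ∃ m, Fintype.card F = 2 * (2 * m + 1) + 1 := ⟨Fintype.card F / 4, by omega⟩
    have := finite_irr (G := S2 F)
    have : Fintype (IrrCharacter (S2 F)) := Fintype.ofFinite _
    obtain ⟨-, c2, -, -, c5, -, c7, c8⟩ := counts hnu hm
    have h1 := sum_tys hnu fun p => if Odd (p.1 + (2 * m + 1) * (p.2.1 + p.2.2)) then 1 else 0
    rw [c2, c5, c7, c8, if_neg (by rw [Nat.odd_iff]; simp only; omega), if_pos (by simp),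
      if_neg (by rw [Nat.odd_iff]; simp only; omega), if_neg (by rw [Nat.odd_iff]; simp only; omega),
      if_pos (by rw [Nat.odd_iff]; simp only; omega), if_neg (by rw [Nat.odd_iff]; simp only; omega),
      if_pos (by rw [Nat.odd_iff]; simp only; omega), if_pos (by rw [Nat.odd_iff]; simp only; omega)] at h1
    simp only [← ODD.PS.S2.deg_ty hnu _ hm] at h1
    rw [← Finset.card_filter, ← Fintype.card_subtype, ← Nat.card_eq_fintype_card] at h1
    refine (Nat.card_congr ?_).trans (h1.trans (by norm_num))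
    exact ⟨fun χ => ⟨⟨χ.1, χ.2.1⟩, χ.2.2⟩, fun χ => ⟨χ.1.1, χ.1.2, χ.2⟩, fun _ => rfl, fun _ => rfl⟩
  · obtain ⟨c, h1, h2, h3⟩ := exists_central hχ.1 (ng_mem (F := F))
    obtain ⟨a, b, hab⟩ := H158.PronM2.exists_sq_add_sq (-1 : F)
    let j : S2 F := ⟨!![a, b; b, -a], by rw [Matrix.det_fin_two_of]; linear_combination -hab⟩
    have h4 : wel * j = ng F * (j * wel) := by
      refine ext4 ?_ ?_ ?_ ?_ <;> simp only [mul00, mul01, mul10, mul11, tor00, tor01, tor10, tor11] <;>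
        simp [j, e00, e01, e10, e11, wel]
    have h5 := congrArg (dH χ) h4
    rw [map_mul, map_mul, map_mul, mul_comm (dH χ j), eq_comm, mul_eq_right] at h5
    obtain ⟨m, hm⟩ := hχ.2
    rw [h5, hm, pow_succ, pow_mul, h2 2 (by rw [pow_two, ng_mul_ng]), one_pow, one_mul, Units.val_one] at h3
    rw [← mul_one (ng F), h1, ← h3, one_mul]
  · have h1 : f2 F σ (x s) = x (σ s) := ext4 (map_one σ) rfl (map_zero σ) (map_one σ)
    by_cases h0 : s = 0
    · rw [h1, h0, map_zero]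
    · obtain ⟨t, ht⟩ := isSquare_mul (a := σ s) (b := s) ⟨fun h => by simpa using h.map σ.symm, fun h => h.map σ⟩
      have h2 : t ≠ 0 := fun e => by simp [e, h0] at ht
      have h3 := tor_mul_x (Units.mk0 (t / s) (div_ne_zero h2 h0)) s
      rw [show ((Units.mk0 (t / s) (div_ne_zero h2 h0) : Fˣ) : F) ^ 2 * s = σ s by
        rw [Units.val_mk0, div_pow, pow_two t, ← ht]; field_simp] at h3
      rw [h1, ← mul_inv_eq_iff_eq_mul.2 h3]
      exact isIrr_isClassFunction hχ.1 _ _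

section alt

variable {F : Type} [Field F] {k : ℕ}

theorem inn_of_sq {g : semiSim k F} {l : F} (hl : l ≠ 0) (hs : IsSquare l) (h : IsSemi g.1 (RingEquiv.refl F) l) :
    ∃ y, Psi k F g = MulAut.conj y := by
  obtain ⟨c, rfl⟩ := hs
  have hc : c ≠ 0 := left_ne_zero_of_mul hl
  let a : Fˣ := (Units.mk0 c hc)⁻¹
  have h1 : scal k F a ∈ semiSim k F := ⟨_, _, mul_ne_zero a.ne_zero a.ne_zero, isSemi_scal a⟩
  have h2 := (isSemi_scal (m := k) a).mul h
  obtain ⟨A, hA⟩ := exists_rho_eq _ h2.1 h2.2.1 fun u v => by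
    rw [h2.2.2]
    change (a : F) * a * (c * c) * sympForm k F u v = _
    simp only [a, Units.val_inv_eq_inv_val, Units.val_mk0]
    field_simp
  refine ⟨QuotientGroup.mk A, ?_⟩
  rw [← one_mul (Psi k F g), ← Psi_scal a h1, ← map_mul]
  ext y
  obtain ⟨B, rfl⟩ := QuotientGroup.mk_surjective y
  rw [MulAut.conj_apply, Psi_mk, ← QuotientGroup.mk_mul, ← QuotientGroup.mk_inv, ← QuotientGroup.mk_mul]
  refine congrArg _ (rho_injective ?_)
  rw [rho_conjHom, map_mul, map_mul, map_inv, hA]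
  rfl

theorem isSemi_DD : IsSemi (ODD.C3.DD (fun _ : Fin k => (-1 : Fˣ)) (-1)).toEquiv (RingEquiv.refl F) (-1) :=
  ⟨map_add (ODD.C3.DD _ _), map_smul (ODD.C3.DD _ _), ODD.C3.DD_sim _ _⟩

/-- the diagonal similitude -/
def dS (k : ℕ) (F : Type) [Field F] : semiSim k F := ⟨_, _, _, neg_ne_zero.2 one_ne_zero, isSemi_DD⟩

theorem psi_dS : Psi k F (dS k F) = ODD.C3.dK k (-1) := by
  ext y
  obtain ⟨g, rfl⟩ := toPSp_surjective y
  refine ((Psi_mk _ (toSp g)).trans (congrArg QuotientGroup.mk (rho_injective ?_))).trans (ODD.C3.del_toPSp _ _ g).symm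
  rw [rho_conjHom]
  refine Equiv.ext fun v => ?_
  rw [Perm.mul_apply, Perm.mul_apply, rho_apply, rho_apply, toSp_mulVec, toSp_mulVec]
  rfl

theorem dS_apply (v : Fin k ⊕ Fin k → F) (j : Fin k ⊕ Fin k) :
    (dS k F).1 v j = Sum.elim (fun _ => v j) (fun _ => -v j) j := by
  rcases j with i | i
  · exact (ODD.C3.DD_inl _ _ v i).trans (by simp)
  · exact (ODD.C3.DD_inr _ _ v i).trans (by simp)

theorem dS_sq : dS k F ^ 2 = 1 := by
  refine Subtype.ext (Equiv.ext fun v => funext fun j => ?_)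
  change (dS k F).1 ((dS k F).1 v) j = v j
  rcases j with i | i <;> simp [dS_apply]

theorem dS_comm (σ : F ≃+* F) : Commute (dS k F) (frob k F σ) := by
  refine Subtype.ext (Equiv.ext fun v => funext fun j => ?_)
  change (dS k F).1 (frobPerm k σ v) j = σ ((dS k F).1 v j)
  rcases j with i | i <;> simp [dS_apply, frobPerm_apply]

end alt

theorem alt : Alt := by
  intro F _ _ k hq hk Γ hin
  refine or_iff_not_imp_left.2 fun h => ?_
  simp only [not_forall, not_exists] at h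
  obtain ⟨α, hα, h⟩ := h
  obtain ⟨g, rfl⟩ := ClassicalGeometry.SympAutExists.exists_semi hk α
    (ClassicalGeometry.SympAutRecog.recog_odd hk (two_ne_of_odd (Nat.odd_iff.2 (by omega))) α)
  obtain ⟨σ, l, hl, h1⟩ := g.2
  have h2 : IsSemi (g * (frob k F σ)⁻¹).1 (RingEquiv.refl F) l := by
    have h3 := h1.mul ((isSemi_frobPerm (m := k) σ).inv one_ne_zero)
    rwa [RingEquiv.symm_trans_self, inv_one, map_one, map_one, mul_one] at h3
  have h3 : ¬ IsSquare l := fun hs => by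
    obtain ⟨y, hy⟩ := inn_of_sq hl hs h2
    rw [map_mul, map_inv, mul_inv_eq_iff_eq_mul] at hy
    exact h y σ hy
  have h4 : ¬ IsSquare (-1 : F) := fun hs => FiniteField.isSquare_neg_one_iff.1 hs hq
  obtain ⟨y, hy⟩ := inn_of_sq (g := g * (frob k F σ)⁻¹ * dS k F) (mul_ne_zero hl (neg_ne_zero.2 one_ne_zero))
    (isSquare_mul (iff_of_false h3 h4)) (h2.mul isSemi_DD)
  have h5 : Psi k F (dS k F * frob k F σ) ∈ Γ := by
    have h6 : g = g * (frob k F σ)⁻¹ * dS k F * (dS k F * frob k F σ) := by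
      rw [mul_assoc, ← mul_assoc (dS k F), ← pow_two, dS_sq, one_mul, inv_mul_cancel_right]
    rw [h6, map_mul, hy] at hα
    exact (mul_mem_cancel_left (hin y)).1 hα
  obtain ⟨m, hm⟩ := odd_aut hq
  have h6 := pow_mem h5 (Nat.card (F ≃+* F))
  rwa [← map_pow, (dS_comm σ).mul_pow, ← map_pow, pow_card_eq_one', map_one, mul_one, hm, pow_succ, pow_mul, dS_sq,
    one_pow, one_mul, psi_dS] at h6

section case

/-- the Frattini argument -/
theorem mem_of_fix {X : Type} [Group X] [Finite X] (Q : Sylow 2 X) {K : Subgroup X}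
    (hN : normalizer ((Q : Subgroup X) : Set X) ≤ K) {β : MulAut X} (hβ : ∀ y ∈ K, β y ∈ K) {z : X}
    (h : ∀ y ∈ (Q : Subgroup X), z * β y * z⁻¹ ∈ (Q : Subgroup X)) : z ∈ K := by
  have := two_prime
  have h1 : (Q : Subgroup X) ≤ K := le_normalizer.trans hN
  have h2 : ((β • Q : Sylow 2 X) : Subgroup X) ≤ K := by
    rintro _ ⟨y, hy, rfl⟩
    exact hβ y (h1 hy)
  obtain ⟨c, hc⟩ := MulAction.exists_smul_eq K (Q.subtype h1) ((β • Q).subtype h2)
  rw [Sylow.smul_subtype] at hc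
  have h3 := Sylow.subtype_injective hc
  refine (mul_mem_cancel_right c.2).1 (hN (mem_normalizer_fintype fun y hy => ?_))
  obtain ⟨y', h4, h5⟩ : c * y * (c : X)⁻¹ ∈ ((β • Q : Sylow 2 X) : Subgroup X) := h3 ▸ ⟨y, hy, rfl⟩
  have h6 := h y' h4
  rwa [show β y' = c * y * (c : X)⁻¹ from h5, show z * (c * y * (c : X)⁻¹) * z⁻¹ = z * c * y * (z * c)⁻¹ by group] at h6

variable {F : Type} [Field F] {k : ℕ}

theorem jP_not_surj (hk : 2 ≤ k) : ¬ Function.Surjective (jP k : Wr (S2 F) (Fin k) →* PSp k F) := by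
  intro h
  let i0 : Fin k := ⟨0, by omega⟩
  let i1 : Fin k := ⟨1, by omega⟩
  have h01 : i0 ≠ i1 := fun e => by simp [i0, i1] at e
  obtain ⟨g, hg⟩ := toSp_surjective (transv (f k F i0 + e k F i1) 1)
  obtain ⟨w, hw⟩ := h (toPSp g)
  obtain ⟨c, hc, h1⟩ := exists_smul_of_toPSp_eq_one (g := g⁻¹ * jI k w) (by
    rw [map_mul, map_inv, ← jP_apply, hw, inv_mul_cancel])
  have h0 : c ≠ 0 := fun e => by rw [e] at hc; simp at hc
  have h2 : jv w (e k F i0) = c • g.1 (e k F i0) := by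
    rw [← map_smul, ← h1]
    exact (g.1.apply_symm_apply _).symm
  rw [← toSp_mulVec, hg, ← rho_apply, rho_transv, sympForm_add_right, ef, ee, jv_e] at h2
  have h3 := congrFun h2 (.inr i0)
  have h4 := congrFun h2 (.inr i1)
  by_cases h5 : w.right i0 = i0
  · simp [e, f, h5, h01.symm] at h4
    exact h0 h4.symm
  · simp [e, f, Ne.symm h5, h01] at h3
    exact h0 h3.symm

theorem kw_eq [Fintype F] (hq : Fintype.card F % 4 = 3) {T : Subgroup (Perm (Fin k))} (hT : IsPGroup 2 T) :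
    kw (ng F) T = c4 T := by
  obtain ⟨h1, h2⟩ := s4 F hq
  have := finite_oi' (G := S2 F)
  let ε := Finite.equivFinOfCardEq h1
  rw [w2 _ _ _ T hT, c4]
  refine congrArg (· * _) (Nat.card_congr ((Equiv.arrowCongr (Equiv.refl _) ε).subtypeEquiv fun θ => ?_))
  exact ⟨fun h t ht i => congrArg ε (h.1 t ht i), fun h => ⟨fun t ht i => ε.injective (h t ht i),
    Finset.prod_congr rfl fun i _ => (h2 _ (θ i).2).1⟩⟩

end case

/-- **the case P** -/
theorem caseP_of (h : Steps) (hG : GS) : CaseP := by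
  intro F _ _ k hq hk X _ _ e Γ s hΓ
  have := two_prime
  have := finite_Wr (A := S2 F) (ι := Fin k)
  have hZ : center X = ⊥ := by
    have := S0270.result (F := F) k hk fun _ => by omega
    have := e.isSimpleGroup
    refine (Subgroup.Normal.eq_bot_or_eq_top inferInstance).resolve_right fun h1 => ?_
    exact SignalizersComponents.Components.quasisimple_not_isSolvable s.qs
      (Group.isSolvable_of_comm fun a b => mem_center_iff.1 (h1.ge (mem_top b)) a)
  obtain ⟨h1, h2⟩ := hG F k hq hk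
  obtain ⟨T, hT⟩ := h1 (s.ih.mono (by
    rw [← Nat.card_congr e.toEquiv, ← index_bot, ← hZ]
    exact E.index_center_le s.inn))
  obtain ⟨Q₀, hQ₀⟩ := nq F k T (Nat.odd_iff.2 (by omega))
  let j : Wr (S2 F) (Fin k) →* X := e.symm.toMonoidHom.comp (jP k)
  let K := (WT (S2 F) (T : Subgroup (Perm (Fin k)))).map j
  let Q : Sylow 2 X := Q₀.mapSurjective (f := e.symm.toMonoidHom) e.symm.surjective
  have hN : normalizer ((Q : Subgroup X) : Set X) ≤ K := by
    rw [show (Q : Subgroup X) = _ from Sylow.coe_mapSurjective _ _,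
      ← map_normalizer_eq_of_bijective _ (f := e.symm.toMonoidHom) e.symm.bijective]
    exact (map_mono hQ₀).trans (map_map _ _ _).le
  let φ : (F ≃+* F) →* MulAut X := (MulAut.congr e.symm).toMonoidHom.comp (fld k F)
  have h3 : ∀ σ w, φ σ (j w) = j (mapW (Fin k) (f2 F σ).toMonoidHom w) := fun σ w =>
    congrArg e.symm ((congrArg (fld k F σ) (e.apply_symm_apply _)).trans (fld_jP σ w))
  have h4 : ∀ σ, ∀ y ∈ K, φ σ y ∈ K := by
    rintro σ _ ⟨w, hw, rfl⟩
    exact ⟨mapW _ _ w, hw, (h3 σ w).symm⟩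
  have h5 : ∀ α ∈ Γ, ∃ (z : X) (σ : F ≃+* F), α = MulAut.conj z * φ σ := fun α hα => by
    obtain ⟨z, σ, a⟩ := hΓ α hα
    refine ⟨e.symm z, σ, MulEquiv.ext fun y => e.injective ?_⟩
    rw [a, MulAut.mul_apply, MulAut.conj_apply, map_mul, map_mul, map_inv, e.apply_symm_apply]
    exact congrArg (z * · * z⁻¹) (e.apply_symm_apply _).symm
  have h6 : In (Nm Γ K) = K := by
    rw [E.in_nm s.inn]
    refine le_antisymm (fun z hz => (inv_mem_iff.1 (mem_of_fix Q hN (β := MulAut.conj z)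
      (fun y hy => (mem_normalizer_iff.1 hz y).1 hy) fun y hy => ?_))) le_normalizer
    simpa [mul_assoc] using hy
  have h7 : ∀ z σ, MulAut.conj z * φ σ ∈ Γ → φ σ ∈ Nm Γ K := fun z σ a =>
    ⟨(mul_mem_cancel_left (s.inn z)).1 a, stab_of_le (h4 σ)⟩
  refine ⟨Nm Γ K, Q, fun α hα => hα.1, fun a => jP_not_surj (F := F) hk fun y => ?_, fun α hα => ?_,
    h.cyc X Γ _ s ⟨fun α hα => hα.1, fun α hα => ?_⟩ ?_ fun l _ α hα _ => ?_⟩
  · obtain ⟨w, -, hw⟩ := h6.le (show e.symm y ∈ In (Nm Γ K) from a.ge (s.inn _))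
    exact ⟨w, e.symm.injective hw⟩
  · obtain ⟨z, σ, rfl⟩ := h5 α hα.1
    exact mul_mem (h6.ge (mem_of_fix Q hN (h4 σ) fun y hy => (hα.2 y).2 hy)) (h7 z σ hα.1)
  · obtain ⟨z, σ, rfl⟩ := h5 α hα
    exact ⟨z, _, h7 z σ hα, rfl⟩
  · have := Nat.finite_of_card_ne_zero (odd_aut hq).pos.ne'
    obtain ⟨σ₀, a⟩ := (LieRecognition.FieldSemilinear.isCyclic_ringAut F).exists_monoid_generator
    refine E.cyc_sub (γ := φ σ₀) fun α hα => ?_
    obtain ⟨z, σ, rfl⟩ := h5 α hα
    obtain ⟨n, rfl⟩ := a σ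
    exact ⟨n, z, by rw [map_pow]⟩
  · obtain ⟨z, σ, rfl⟩ := h5 α hα.1
    have a1 : z ∈ K := h6.le ((mul_mem_cancel_right (h7 z σ hα.1)).1 hα)
    rw [h6]
    refine fA_eq_fB hZ ?_ l
    have a2 := j.subgroupMap_surjective (WT (S2 F) (T : Subgroup (Perm (Fin k))))
    rw [fN_conj_mul a1, f0_conj_mul, f0_congr e (β := fld k F σ) fun y => e.apply_symm_apply _, f0_eq_of_all (h2 σ), hT,
      ← kw_eq hq T.2, kw, ← kk_map (Z' := ⊥) (l := 1) (l' := 1) j (fun w _ => ?_) fun _ _ _ => rfl, kk_bot _ rfl]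
    · refine (k0_eq_of fun ψ hψ y y' a => ?_).symm
      obtain ⟨w, rfl⟩ := a2 y
      rw [show y' = j.subgroupMap _ (actW _ _ (f2 F σ) w) from Subtype.ext (a.trans (h3 σ w))]
      exact w3 _ _ _ (f2 F σ) _ T.2 (odd_aut hq) (by rw [← map_pow, pow_card_eq_one', map_one])
        (fun χ hχ => ((s4 F hq).2 χ hχ).2 σ) _ (oi_comp _ a2 hψ) _ _ rfl
    · rw [mem_bot, ← jP_eq_one]
      exact e.symm.map_eq_one_iff

end Cfsg.Agent.MK.P
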