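import Cfsg.Agent.MK.P.GS
import Cfsg.Agent.MK.P.Main
import Cfsg.Agent.MK.GC.Alt

/-!
# MK-P: the row of `PSp_{2k}(q)`, `q` odd (helper36)
-/

set_option autoImplicit false

namespace Cfsg.Agent.MK.P

open Cfsg Cfsg.Agent.ODD

/-- **the case P** -/
theorem caseP (h : Steps) : CaseP := caseP_of h (gs w1 w2 s4)

/-- **the row** -/
theorem row_psp (h : Steps) : Row PspO := GC.row_psp h (caseP h)

end Cfsg.Agent.MK.P
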