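import Cfsg.Agent.MK.Basic
import Cfsg.Agent.MK.T.A
import Cfsg.Agent.ODD.C3.MDiag
import Cfsg.Agent.ClassicalGeometry.SympGamma

/-!
# MK-P: `PSp_{2n}(q)`, `q ≡ 3 mod 4`, field automorphisms only: the interface (helper36)

* `Wr A ι`, `WT T`, `dz z`, `mapW`, `emb` : wreath products; `kw z T` : the count for `A ≀ T` modulo `dz z`;
* `jP k : Wr (S2 F) (Fin k) →* PSp k F` with the kernel `⟨dz (-1)⟩`; `fld k σ`, `f2 σ` : field automorphisms;
* the boxes `W1`, `W2`, `W3` (wreath products), `NQ` (Sylow normaliser), `GS` (the count and the fixed characters of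
  `PSp`), `CaseP` (the goal).
-/

set_option autoImplicit false
set_option linter.unusedSectionVars false

namespace Cfsg.Agent.MK.P

open Cfsg Subgroup Equiv Cfsg.Agent.MK.T

/-! ### wreath products -/

/-- the wreath product -/
abbrev Wr (A ι : Type) [Group A] : Type := (ι → A) ⋊[mulAutArrow] Perm ι

section wr

variable {A B ι : Type} [Group A] [Group B]

theorem act_apply (σ : Perm ι) (a : ι → A) (i : ι) : (mulAutArrow σ : MulAut (ι → A)) a i = a (σ⁻¹ i) := rfl

theorem mul_left (v w : Wr A ι) (i : ι) : (v * w).left i = v.left i * w.left (v.right⁻¹ i) := rfl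

theorem inv_left (v : Wr A ι) (i : ι) : (v⁻¹).left i = (v.left (v.right i))⁻¹ := rfl

theorem finite_Wr [Finite A] [Finite ι] : Finite (Wr A ι) :=
  Finite.of_equiv _ SemidirectProduct.equivProd.symm

/-- `A ≀ T` -/
def WT (A : Type) [Group A] (T : Subgroup (Perm ι)) : Subgroup (Wr A ι) := T.comap SemidirectProduct.rightHom

theorem mem_WT {T : Subgroup (Perm ι)} {w : Wr A ι} : w ∈ WT A T ↔ w.right ∈ T := Iff.rfl

/-- the diagonal element -/
def dz (ι : Type) (z : A) : Wr A ι := SemidirectProduct.inl fun _ => z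

theorem dz_left (z : A) (i : ι) : (dz ι z).left i = z := rfl

theorem dz_right (z : A) : (dz ι z).right = 1 := rfl

theorem dz_mem {z : A} (hz : z ∈ center A) : dz ι z ∈ center (Wr A ι) :=
  mem_center_iff.2 fun w => SemidirectProduct.ext (funext fun i => by
    rw [mul_left, mul_left, dz_left, dz_left, dz_right, inv_one, Perm.one_apply, mem_center_iff.1 hz]) (by
    rw [SemidirectProduct.mul_right, SemidirectProduct.mul_right, dz_right, one_mul, mul_one])

/-- functoriality -/
def mapW (ι : Type) (φ : A →* B) : Wr A ι →* Wr B ι where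
  toFun w := ⟨fun i => φ (w.left i), w.right⟩
  map_one' := SemidirectProduct.ext (funext fun _ => map_one φ) rfl
  map_mul' _ _ := SemidirectProduct.ext (funext fun _ => map_mul φ _ _) rfl

theorem mapW_left (φ : A →* B) (w : Wr A ι) (i : ι) : (mapW ι φ w).left i = φ (w.left i) := rfl

theorem mapW_right (φ : A →* B) (w : Wr A ι) : (mapW ι φ w).right = w.right := rfl

theorem mapW_dz (φ : A →* B) (z : A) : mapW ι φ (dz ι z) = dz ι (φ z) := rfl

theorem mapW_injective {φ : A →* B} (h : Function.Injective φ) : Function.Injective (mapW ι φ) := fun _ _ e =>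
  SemidirectProduct.ext (funext fun i => h (congrFun (congrArg SemidirectProduct.left e) i))
    (congrArg (SemidirectProduct.right (φ := mulAutArrow) (N := ι → B)) e)

/-- the permutations which fix the last point -/
noncomputable def eP (m : ℕ) : Perm (Fin m) →* Perm (Fin (m + 1)) := Perm.viaEmbeddingHom Fin.castSuccEmb

theorem eP_cast {m : ℕ} (σ : Perm (Fin m)) (i : Fin m) : eP m σ i.castSucc = (σ i).castSucc :=
  Perm.viaEmbedding_apply σ Fin.castSuccEmb i

theorem eP_last {m : ℕ} (σ : Perm (Fin m)) : eP m σ (Fin.last m) = Fin.last m :=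
  Perm.viaEmbedding_apply_of_notMem σ Fin.castSuccEmb _ fun ⟨i, hi⟩ => (Fin.castSucc_lt_last i).ne hi

theorem eP_injective (m : ℕ) : Function.Injective (eP m) := Perm.viaEmbeddingHom_injective _

/-- the embedding which is trivial in the last component -/
noncomputable def emb (A : Type) [Group A] (m : ℕ) : Wr A (Fin m) →* Wr A (Fin (m + 1)) where
  toFun w := ⟨Fin.lastCases 1 w.left, eP m w.right⟩
  map_one' := SemidirectProduct.ext (funext fun i => by induction i using Fin.lastCases <;> simp) (map_one _)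
  map_mul' v w := SemidirectProduct.ext (funext fun i => by
    rw [mul_left, ← map_inv]
    induction i using Fin.lastCases with
    | last => rw [eP_last]; simp
    | cast i => rw [eP_cast]; simp only [Fin.lastCases_castSucc, mul_left]) (map_mul (eP m) _ _)

theorem emb_cast {m : ℕ} (w : Wr A (Fin m)) (i : Fin m) : (emb A m w).left i.castSucc = w.left i :=
  Fin.lastCases_castSucc (motive := fun _ => A) i

theorem emb_last {m : ℕ} (w : Wr A (Fin m)) : (emb A m w).left (Fin.last m) = 1 :=
  Fin.lastCases_last (motive := fun _ => A)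

theorem emb_right {m : ℕ} (w : Wr A (Fin m)) : (emb A m w).right = eP m w.right := rfl

/-- the number of irreducible characters of odd degree of `A ≀ T` with `dz z` in the kernel -/
noncomputable def kw (z : A) (T : Subgroup (Perm ι)) : ℕ := kk (WT A T) (zpowers (dz ι z)) 1

/-- a family which is constant on the orbits of `T` -/
def Iv {S : Type} (T : Subgroup (Perm ι)) (μ : ι → S) : Prop := ∀ t ∈ T, ∀ i, μ (t i) = μ i

/-- the number `4 ^ (number of orbits) * |T : T'|` -/
noncomputable def c4 (T : Subgroup (Perm ι)) : ℕ := Nat.card {μ : ι → Fin 4 // Iv T μ} * ab T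

end wr

/-- the induction hypothesis for a wreath product -/
def W1 : Prop :=
  ∀ (A ι : Type) [Group A] [Finite A] [Fintype ι] (z : A) (T : Sylow 2 (Perm ι)) (n : ℕ), z ∈ center A → IH n →
    (zpowers (dz ι z)).index < n → kw z (⊤ : Subgroup (Perm ι)) = kw z (T : Subgroup (Perm ι))

/-- the count for a `2`-group of permutations -/
def W2 : Prop :=
  ∀ (A ι : Type) [Group A] [Finite A] [Fintype ι] (z : A) (T : Subgroup (Perm ι)), IsPGroup 2 T →
    kw z T = Nat.card {θ : ι → {χ : A → ℂ // OI A χ} // Iv T θ ∧ ∏ i, (θ i).1 z = ∏ i, (θ i).1 1} * ab T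

/-- the fixed characters -/
def W3 : Prop :=
  ∀ (A ι : Type) [Group A] [Finite A] [Fintype ι] (T : Subgroup (Perm ι)) (δ : MulAut A) (k : ℕ), IsPGroup 2 T →
    Odd k → δ ^ k = 1 → (∀ χ, OI A χ → ∀ a, χ (δ a) = χ a) → ∀ ψ : WT A T → ℂ, OI (WT A T) ψ →
    ∀ y y' : WT A T, (y' : Wr A ι) = mapW ι δ.toMonoidHom y → ψ y' = ψ y

/-! ### the model -/

section model

open Cfsg.Agent.ClassicalGeometry.SympBasic Cfsg.Agent.ClassicalGeometry.SympAutSemi
  Cfsg.Agent.ClassicalGeometry.SympGamma Cfsg.Agent.H670.SL2 Cfsg.Agent.ODD.PS.C3 Cfsg.Agent.TitsThree.SpIdent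

variable {F : Type} [Field F] {k : ℕ}

/-- the action of the wreath product on the symplectic space -/
def jv (w : Wr (S2 F) (Fin k)) (v : Fin k ⊕ Fin k → F) : Fin k ⊕ Fin k → F :=
  Sum.elim (fun i => e10 (w.left i) * v (.inr (w.right⁻¹ i)) + e11 (w.left i) * v (.inl (w.right⁻¹ i)))
    fun i => e00 (w.left i) * v (.inr (w.right⁻¹ i)) + e01 (w.left i) * v (.inl (w.right⁻¹ i))

theorem jv_inl (w : Wr (S2 F) (Fin k)) (v : Fin k ⊕ Fin k → F) (i : Fin k) : jv w v (.inl i) =
    e10 (w.left i) * v (.inr (w.right⁻¹ i)) + e11 (w.left i) * v (.inl (w.right⁻¹ i)) := rfl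

theorem jv_inr (w : Wr (S2 F) (Fin k)) (v : Fin k ⊕ Fin k → F) (i : Fin k) : jv w v (.inr i) =
    e00 (w.left i) * v (.inr (w.right⁻¹ i)) + e01 (w.left i) * v (.inl (w.right⁻¹ i)) := rfl

theorem jv_mul (w w' : Wr (S2 F) (Fin k)) (v : Fin k ⊕ Fin k → F) : jv (w * w') v = jv w (jv w' v) := by
  funext j
  rcases j with i | i
  · rw [jv_inl, jv_inl, jv_inl, jv_inr, mul_left, mul10, mul11, SemidirectProduct.mul_right, mul_inv_rev,
      Perm.mul_apply]
    ring
  · rw [jv_inr, jv_inr, jv_inl, jv_inr, mul_left, mul00, mul01, SemidirectProduct.mul_right, mul_inv_rev,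
      Perm.mul_apply]
    ring

theorem jv_one (v : Fin k ⊕ Fin k → F) : jv 1 v = v := by
  funext j
  rcases j with i | i
  · show 0 * v (.inr i) + 1 * v (.inl i) = _
    ring
  · show 1 * v (.inr i) + 0 * v (.inl i) = _
    ring

theorem jv_iso (w : Wr (S2 F) (Fin k)) (u v : Fin k ⊕ Fin k → F) :
    sympForm k F (jv w u) (jv w v) = sympForm k F u v := by
  rw [sympForm_eq_sum, sympForm_eq_sum]
  refine Fintype.sum_equiv w.right⁻¹ _ _ fun i => ?_
  rw [jv_inl, jv_inl, jv_inr, jv_inr]
  linear_combination (u (.inr (w.right⁻¹ i)) * v (.inl (w.right⁻¹ i)) -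
    u (.inl (w.right⁻¹ i)) * v (.inr (w.right⁻¹ i))) * det_eq (w.left i)

/-- the wreath product in the group of isometries -/
def jI (k : ℕ) : Wr (S2 F) (Fin k) →* isos (form k F) where
  toFun w := ⟨{ toFun := jv w
                map_add' := fun u v => by
                  funext j
                  rcases j with i | i <;> simp only [Pi.add_apply, jv_inl, jv_inr] <;> ring
                map_smul' := fun c v => by
                  funext j
                  rcases j with i | i <;> simp only [Pi.smul_apply, smul_eq_mul, RingHom.id_apply, jv_inl, jv_inr] <;>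
                    ring
                invFun := jv w⁻¹
                left_inv := fun v => by rw [← jv_mul, inv_mul_cancel, jv_one]
                right_inv := fun v => by rw [← jv_mul, mul_inv_cancel, jv_one] }, jv_iso w⟩
  map_one' := Subtype.ext (LinearEquiv.ext jv_one)
  map_mul' v w := Subtype.ext (LinearEquiv.ext (jv_mul v w))

theorem jI_apply (w : Wr (S2 F) (Fin k)) (v : Fin k ⊕ Fin k → F) : (jI k w).1 v = jv w v := rfl

/-- **the wreath product in `PSp`** -/
noncomputable def jP (k : ℕ) : Wr (S2 F) (Fin k) →* PSp k F := toPSp.comp (jI k)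

theorem jP_apply (w : Wr (S2 F) (Fin k)) : jP k w = toPSp (jI k w) := rfl

/-- `-1` -/
abbrev ng (F : Type) [Field F] : S2 F := tor (-1)

theorem ng_mul_ng : ng F * ng F = 1 := by rw [← map_mul, neg_mul_neg, one_mul, map_one]

theorem ng_mem : ng F ∈ center (S2 F) :=
  mem_center_iff.2 fun g => by
    refine ext4 ?_ ?_ ?_ ?_ <;> simp only [mul00, mul01, mul10, mul11, tor00, tor01, tor10, tor11, inv_neg, inv_one] <;>
      ring

theorem jv_e (w : Wr (S2 F) (Fin k)) (i : Fin k) : jv w (e k F i) =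
    e00 (w.left (w.right i)) • e k F (w.right i) + e10 (w.left (w.right i)) • f k F (w.right i) := by
  funext j
  rcases j with j | j <;> by_cases h : j = w.right i
  · subst h
    simp [jv_inl, e, f]
  · have h' : w.right.symm j ≠ i := fun h' => h (by rw [← h']; simp)
    simp [jv_inl, e, f, h, h']
  · subst h
    simp [jv_inr, e, f]
  · have h' : w.right.symm j ≠ i := fun h' => h (by rw [← h']; simp)
    simp [jv_inr, e, f, h, h']

theorem jv_f (w : Wr (S2 F) (Fin k)) (i : Fin k) : jv w (f k F i) =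
    e01 (w.left (w.right i)) • e k F (w.right i) + e11 (w.left (w.right i)) • f k F (w.right i) := by
  funext j
  rcases j with j | j <;> by_cases h : j = w.right i
  · subst h
    simp [jv_inl, e, f]
  · have h' : w.right.symm j ≠ i := fun h' => h (by rw [← h']; simp)
    simp [jv_inl, e, f, h, h']
  · subst h
    simp [jv_inr, e, f]
  · have h' : w.right.symm j ≠ i := fun h' => h (by rw [← h']; simp)
    simp [jv_inr, e, f, h, h']

theorem jv_dz (v : Fin k ⊕ Fin k → F) : jv (dz (Fin k) (ng F)) v = -v := by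
  funext j
  rcases j with i | i
  · rw [jv_inl, dz_left, dz_right, tor10, tor11]
    simp
  · rw [jv_inr, dz_left, dz_right, tor00, tor01]
    simp

theorem toPSp_eq_one {g : isos (form k F)} {c : F} (h : ∀ v, g.1 v = c • v) : toPSp g = 1 := by
  refine (QuotientGroup.eq_one_iff _).2 (mem_center_iff.2 fun A => ?_)
  obtain ⟨a, rfl⟩ := toSp_surjective A
  rw [← map_mul, ← map_mul]
  refine congrArg toSp (Subtype.ext (LinearEquiv.ext fun v => ?_))
  show a.1 (g.1 v) = g.1 (a.1 v)
  rw [h, h, map_smul]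

/-- the kernel -/
theorem jP_eq_one {w : Wr (S2 F) (Fin k)} : jP k w = 1 ↔ w ∈ zpowers (dz (Fin k) (ng F)) := by
  refine ⟨fun h => ?_, fun h => (zpowers_le (H := (jP k).ker)).2 (toPSp_eq_one (c := -1) fun v => ?_) h⟩
  · obtain ⟨c, hc, h1⟩ := exists_smul_of_toPSp_eq_one h
    have h0 : c ≠ 0 := fun e => by rw [e] at hc; simp at hc
    have h2 : ∀ i, w.right i = i := fun i => by
      by_contra hi
      have h3 := congrFun ((jv_e w i).symm.trans (h1 (e k F i))) (.inr i)
      simp [e, f, Ne.symm hi] at h3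
      exact h0 h3.symm
    have h3 : w.right = 1 := Equiv.ext h2
    have h4 : ∀ i, e00 (w.left i) = c ∧ e01 (w.left i) = 0 ∧ e10 (w.left i) = 0 ∧ e11 (w.left i) = c := fun i => by
      have a1 := (jv_e w i).symm.trans (h1 (e k F i))
      have a2 := (jv_f w i).symm.trans (h1 (f k F i))
      rw [h2] at a1 a2
      exact ⟨by simpa [e, f] using congrFun a1 (.inr i), by simpa [e, f] using congrFun a2 (.inr i),
        by simpa [e, f] using congrFun a1 (.inl i), by simpa [e, f] using congrFun a2 (.inl i)⟩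
    rcases sq_eq_one_iff.1 hc with rfl | rfl
    · have : w = 1 := SemidirectProduct.ext (funext fun i => ext4 (h4 i).1 (h4 i).2.1 (h4 i).2.2.1 (h4 i).2.2.2) h3
      exact this ▸ one_mem _
    · have : w = dz (Fin k) (ng F) := SemidirectProduct.ext (funext fun i =>
        ext4 (h4 i).1 (h4 i).2.1 (h4 i).2.2.1 ((h4 i).2.2.2.trans (by rw [dz_left, tor11]; simp))) h3
      exact this ▸ mem_zpowers _
  · rw [jI_apply, jv_dz, neg_one_smul]

/-- the field automorphisms of `SL₂` -/
def f2 (F : Type) [Field F] : (F ≃+* F) →* MulAut (S2 F) where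
  toFun σ :=
    { toFun := Matrix.SpecialLinearGroup.map σ.toRingHom
      invFun := Matrix.SpecialLinearGroup.map σ.symm.toRingHom
      left_inv := fun _ => ext4 (σ.symm_apply_apply _) (σ.symm_apply_apply _) (σ.symm_apply_apply _)
        (σ.symm_apply_apply _)
      right_inv := fun _ => ext4 (σ.apply_symm_apply _) (σ.apply_symm_apply _) (σ.apply_symm_apply _)
        (σ.apply_symm_apply _)
      map_mul' := map_mul _ }
  map_one' := MulEquiv.ext fun _ => ext4 rfl rfl rfl rfl
  map_mul' _ _ := MulEquiv.ext fun _ => ext4 rfl rfl rfl rfl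

theorem f2_00 (σ : F ≃+* F) (g : S2 F) : e00 (f2 F σ g) = σ (e00 g) := rfl
theorem f2_01 (σ : F ≃+* F) (g : S2 F) : e01 (f2 F σ g) = σ (e01 g) := rfl
theorem f2_10 (σ : F ≃+* F) (g : S2 F) : e10 (f2 F σ g) = σ (e10 g) := rfl
theorem f2_11 (σ : F ≃+* F) (g : S2 F) : e11 (f2 F σ g) = σ (e11 g) := rfl

/-- the semilinear maps -/
def frob (k : ℕ) (F : Type) [Field F] : (F ≃+* F) →* semiSim k F where
  toFun σ := ⟨frobPerm k σ, σ, 1, one_ne_zero, isSemi_frobPerm σ⟩
  map_one' := rfl
  map_mul' _ _ := rfl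

/-- **the field automorphisms of `PSp`** -/
noncomputable def fld (k : ℕ) (F : Type) [Field F] : (F ≃+* F) →* MulAut (PSp k F) := (Psi k F).comp (frob k F)

theorem fld_toPSp (σ : F ≃+* F) {g g' : isos (form k F)}
    (h : ∀ v, g'.1 (frobPerm k σ v) = frobPerm k σ (g.1 v)) : fld k F σ (toPSp g) = toPSp g' := by
  refine (Psi_mk (frob k F σ) (toSp g)).trans (congrArg QuotientGroup.mk (rho_injective ?_))
  rw [rho_conjHom, mul_inv_eq_iff_eq_mul]
  refine Equiv.ext fun v => ?_
  rw [Perm.mul_apply, Perm.mul_apply, rho_apply, rho_apply, toSp_mulVec, toSp_mulVec]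
  exact (h v).symm

theorem fld_jP (σ : F ≃+* F) (w : Wr (S2 F) (Fin k)) :
    fld k F σ (jP k w) = jP k (mapW (Fin k) (f2 F σ).toMonoidHom w) := by
  refine fld_toPSp σ fun v => funext fun j => ?_
  rw [jI_apply, jI_apply, frobPerm_apply]
  rcases j with i | i
  · rw [jv_inl, jv_inl, map_add, map_mul, map_mul]
    rfl
  · rw [jv_inr, jv_inr, map_add, map_mul, map_mul]
    rfl

end model

open Cfsg.Agent.ODD.PS.C3

/-- the normaliser of a Sylow `2`-subgroup -/
def NQ : Prop :=
  ∀ (F : Type) [Field F] [Fintype F] (k : ℕ) (T : Sylow 2 (Perm (Fin k))), Odd (Fintype.card F) →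
    ∃ Q : Sylow 2 (PSp k F), normalizer ((Q : Subgroup (PSp k F)) : Set (PSp k F)) ≤
      (WT (S2 F) (T : Subgroup (Perm (Fin k)))).map (jP k)

/-- the global side -/
def GS : Prop :=
  ∀ (F : Type) [Field F] [Fintype F] (k : ℕ), Fintype.card F % 4 = 3 → 2 ≤ k →
    (IH (Nat.card (PSp k F)) → ∃ T : Sylow 2 (Perm (Fin k)), k0 (PSp k F) = c4 (T : Subgroup (Perm (Fin k)))) ∧
    ∀ (σ : F ≃+* F) (χ : PSp k F → ℂ), OI (PSp k F) χ → ∀ x, χ (fld k F σ x) = χ x

/-- the characters of odd degree of `SL₂(q)` -/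
def S4 : Prop :=
  ∀ (F : Type) [Field F] [Fintype F], Fintype.card F % 4 = 3 → k0 (S2 F) = 4 ∧
    ∀ χ, OI (S2 F) χ → χ (ng F) = χ 1 ∧ ∀ (σ : F ≃+* F) (x : S2 F), χ (f2 F σ x) = χ x

/-- **the case P** -/
def CaseP : Prop :=
  ∀ (F : Type) [Field F] [Fintype F] (k : ℕ), Fintype.card F % 4 = 3 → 2 ≤ k →
    ∀ (X : Type) [Group X] [Finite X] (e : X ≃* PSp k F) (Γ : Subgroup (MulAut X)), Sit X Γ →
    (∀ α ∈ Γ, ∃ (x : PSp k F) (σ : F ≃+* F), ∀ y, e (α y) = x * fld k F σ (e y) * x⁻¹) → Gd X Γ

/-- the alternative for the row -/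
def Alt : Prop :=
  ∀ (F : Type) [Field F] [Fintype F] (k : ℕ), Fintype.card F % 4 = 3 → 2 ≤ k →
    ∀ Γ : Subgroup (MulAut (PSp k F)), (∀ x, MulAut.conj x ∈ Γ) →
    (∀ α ∈ Γ, ∃ (x : PSp k F) (σ : F ≃+* F), α = MulAut.conj x * fld k F σ) ∨
      (ODD.C3.dK k (-1) : MulAut (PSp k F)) ∈ Γ

end Cfsg.Agent.MK.P
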