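import Cfsg.Agent.MK.P.Defs
import Cfsg.Agent.MK.Y.CoreI
import Cfsg.Agent.MK.Y.Core
import Cfsg.Agent.MK.H.Cnt
import Cfsg.Agent.ODD.PS.C3Main

/-!
# MK-P: the deformation theorem for a Hecke datum (helper36)

`count_dat` : the number of irreducible characters with odd multiplicity at the idempotent `t 1` is `k0 N'`.
-/

set_option autoImplicit false
set_option linter.unusedSectionVars false

namespace Cfsg.Agent.MK.P

open Cfsg Subgroup Cfsg.Agent.MK.T Cfsg.Agent.H684.OQ Cfsg.Agent.ODD Cfsg.Agent.MK.Y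
open scoped ComplexConjugate

variable {Y : Type} [Group Y]

/-- the multiplicity at `e` is odd -/
def Om (e : Al Y) (χ : Y → ℂ) : Prop := IsIrrCharacter Y χ ∧ ∃ d : ℕ, Odd d ∧ lin χ e = d

variable {I W N N' : Type} [Group W] {M : CoxeterMatrix I} {cs : CoxeterSystem M W} [Group N] [Group N']
  [Fintype Y] (D : AH.Dat cs N (Al Y)) (φ : N →* N') (hφ : Function.Surjective φ)
  (hk : ∀ z, φ z = 1 → D.π z = 1 ∧ D.t z = D.t 1) (htr : ∀ a, D.π a = 1 → φ a ≠ 1 → (D.t a).coeff 1 = 0)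
  (hst : ∀ a, sr (D.t a) = D.t a⁻¹) (hne : D.t 1 ≠ 0)

include hk htr hst hne

theorem ya_dat : YA (fun x => cs.length (D.π (Function.surjInv hφ x))) fun x => D.t (Function.surjInv hφ x) := by
  have h0 : ∀ a, φ (a⁻¹ * Function.surjInv hφ (φ a)) = 1 := fun a => by
    rw [map_mul, map_inv, Function.surjInv_eq hφ, inv_mul_cancel]
  have h1 : ∀ a, D.π (Function.surjInv hφ (φ a)) = D.π a := fun a => by
    have := (hk _ (h0 a)).1
    rwa [map_mul, map_inv, inv_mul_eq_one, eq_comm] at this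
  have h2 : ∀ a, D.t (Function.surjInv hφ (φ a)) = D.t a := fun a => by
    rw [← mul_inv_cancel_left a (Function.surjInv hφ (φ a)), D.t_right _ _ (hk _ (h0 a)).1, (hk _ (h0 a)).2,
      D.t_mul_one]
  have h3 : D.t (Function.surjInv hφ 1) = D.t 1 := by rw [← map_one φ, h2]
  have h4 : ∀ {s : N} {i : I}, D.π s = cs.simple i → D.π (s * (D.n i)⁻¹) = 1 := fun {s i} h => by
    rw [map_mul, map_inv, h, D.π_n, mul_inv_cancel]
  refine ⟨?_, fun x => ?_, fun x y => ?_, fun x y => ?_, fun x => ?_, fun x y => ?_, fun x => ?_, fun x g => ?_,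
    fun x => ?_, fun x hx => ?_, by rwa [h3]⟩
  · rw [← map_one φ, h1, map_one, cs.length_one]
  · obtain ⟨a, rfl⟩ := hφ x
    rw [← map_inv, h1, h1, map_inv, cs.length_inv]
  · obtain ⟨a, rfl⟩ := hφ x
    obtain ⟨b, rfl⟩ := hφ y
    rw [← map_mul, h1, h1, h1, h2, h2, h2, cs.length_eq_zero_iff]
    intro h
    exact ⟨by rw [map_mul, h, one_mul], D.t_left a b h⟩
  · obtain ⟨a, rfl⟩ := hφ x
    obtain ⟨b, rfl⟩ := hφ y
    rw [← map_mul, h1, h1, h1, cs.length_eq_one_iff]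
    rintro ⟨i, h⟩
    rw [map_mul, h]
    exact cs.length_simple_mul _ i
  · obtain ⟨a, rfl⟩ := hφ x
    rw [h1]
    intro h
    obtain ⟨i, hi⟩ := cs.exists_leftDescent_of_ne_one (w := D.π a) fun e => h (by rw [e, cs.length_one])
    refine ⟨φ (D.n i), by rw [h1, D.π_n, cs.length_simple], ?_⟩
    rw [← map_mul, h1, map_mul, D.π_n]
    exact cs.isLeftDescent_iff.1 hi
  · obtain ⟨a, rfl⟩ := hφ x
    obtain ⟨b, rfl⟩ := hφ y
    rw [← map_mul, h1, h1, h1, h2, h2, h2, cs.length_eq_one_iff]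
    rintro ⟨i, h⟩ hl
    rw [map_mul, h] at hl
    rw [← inv_mul_cancel_right a (D.n i), D.t_left _ _ (h4 h), mul_assoc, D.add i b (by omega), ← D.t_left _ _ (h4 h),
      ← mul_assoc]
  · obtain ⟨a, rfl⟩ := hφ x
    rw [← map_inv, h1, h2, h2, h3, cs.length_eq_one_iff]
    rintro ⟨i, h⟩
    obtain ⟨k, hk0, hq⟩ := D.quad i
    refine ⟨k, hk0, ?_⟩
    have h5 : D.π (a * (D.n i)⁻¹)⁻¹ = 1 := by rw [map_inv, h4 h, inv_one]
    have h6 : D.t a * D.t a⁻¹ - k • D.t 1 =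
        D.t (a * (D.n i)⁻¹) * (D.t (D.n i) * D.t (D.n i)⁻¹ - k • D.t 1) * D.t (a * (D.n i)⁻¹)⁻¹ := by
      rw [mul_sub, sub_mul, mul_smul_comm, smul_mul_assoc, D.t_mul_one, ← D.t_left _ _ (h4 h), mul_inv_cancel,
        ← mul_assoc, ← D.t_left _ _ (h4 h), mul_assoc (D.t _), ← D.t_right _ _ h5]
      congr 3 <;> group
    rw [h6]
    refine Submodule.span_induction (p := fun x _ => D.t (a * (D.n i)⁻¹) * x * D.t (a * (D.n i)⁻¹)⁻¹ ∈ _) ?_ ?_ ?_ ?_ hq
    · rintro _ ⟨b, hb, rfl⟩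
      rw [← D.t_left _ _ (h4 h), ← D.t_right _ _ h5]
      refine Submodule.subset_span ⟨φ _, ⟨φ (a * (D.n i)⁻¹ * b * (a * (D.n i)⁻¹)⁻¹ * a), ?_, ?_⟩, h2 _⟩
      · rw [h1, map_mul, map_mul, map_mul, h5, h4 h, show D.π b = _ from hb, h, one_mul, mul_one,
          cs.simple_mul_simple_self, cs.length_one]
      · rw [← map_mul, mul_inv_cancel_right]
    · rw [mul_zero, zero_mul]
      exact zero_mem _
    · intro x y _ _ hx hy
      rw [mul_add, add_mul]
      exact add_mem hx hy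
    · intro c x _ hx
      rw [mul_smul_comm, smul_mul_assoc]
      exact Submodule.smul_mem _ _ hx
  · obtain ⟨a, rfl⟩ := hφ x
    rw [← map_inv, h2, h2, ← hst, coeff_sr]
  · rw [h3]
    refine Submodule.span_mono ?_ (D.span x)
    rintro _ ⟨a, rfl⟩
    exact ⟨φ a, h2 a⟩
  · obtain ⟨a, rfl⟩ := hφ x
    rw [h2]
    by_cases h : D.π a = 1
    · exact htr a h hx
    · have h5 := D.tr0 a h
      rw [AH.trace_mulLeft] at h5
      exact (mul_eq_zero.1 h5).resolve_left (Nat.cast_ne_zero.2 Nat.card_pos.ne')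

include hφ

/-- **the count** -/
theorem count_dat [Finite N] : Nat.card {χ // Om (D.t 1) χ} = k0 N' := by
  have : Finite N' := Finite.of_surjective φ hφ
  have h3 : D.t (Function.surjInv hφ 1) = D.t 1 := (hk _ (Function.surjInv_eq hφ 1)).2
  have key := coreI Y N' _ _ (ya_dat D φ hφ hk htr hst hne)
  simp only [h3] at key
  have : Finite {χ // Om (D.t 1) χ} := H.finite_sub fun _ h => h.1
  have : Finite {χ // OI N' χ} := finite_oi'
  refine H.card_eq_of_fib (fun χ => χ.2.2.choose) (fun ψ => charDegree ψ.1) fun d => ?_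
  by_cases hd : Odd d
  · refine Eq.trans (Nat.card_congr ?_) ((key d hd.pos.ne').trans (Nat.card_congr ?_))
    · refine (Equiv.subtypeSubtypeEquivSubtypeExists _ _).trans (Equiv.subtypeEquivRight fun χ => ?_)
      rw [← ODD.C3.Q.lin_eq]
      refine ⟨fun ⟨h, e⟩ => ⟨h.1, e ▸ h.2.choose_spec.2⟩, fun h => ⟨⟨h.1, d, hd, h.2⟩, ?_⟩⟩
      generalize_proofs h'
      exact Nat.cast_injective (R := ℂ) (h'.2.choose_spec.2.symm.trans h.2)
    · refine Equiv.symm ((Equiv.subtypeSubtypeEquivSubtypeExists _ _).trans (Equiv.subtypeEquivRight fun χ => ?_))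
      exact ⟨fun ⟨h, e⟩ => ⟨h.1, e⟩, fun h => ⟨⟨h.1, h.2 ▸ hd⟩, h.2⟩⟩
  · have : IsEmpty {χ : {χ // Om (D.t 1) χ} // χ.2.2.choose = d} := ⟨fun χ => hd (χ.2 ▸ χ.1.2.2.choose_spec.1)⟩
    have : IsEmpty {ψ : {χ // OI N' χ} // charDegree ψ.1 = d} := ⟨fun ψ => hd (ψ.2 ▸ ψ.1.2.2)⟩
    rw [Nat.card_of_isEmpty, Nat.card_of_isEmpty]

end Cfsg.Agent.MK.P
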