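import Cfsg.Agent.MK.P.GA

/-!
# MK-P: the two series (helper36)

* `count1` : the principal series, `k0 N`; `count2` : the series of a cuspidal idempotent of the node `l`;
* `dis` : the series are disjoint.
-/

set_option autoImplicit false
set_option linter.unusedSectionVars false

namespace Cfsg.Agent.MK.P

open Cfsg Subgroup Cfsg.Agent.MK.T Cfsg.Agent.H684.OQ Cfsg.Agent.ODD Cfsg.Agent.ODD.PS
  Cfsg.Agent.ODD.PS.C3 Cfsg.Agent.H670
open CoxeterSystem Cfsg.Agent.ChevalleyStructure.CoxeterGeom Cfsg.Agent.Tits.Roots Cfsg.Agent.Tits.Core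
  Cfsg.Agent.Nodes.Reps Cfsg.Agent.Nodes.BNOf Cfsg.Agent.Nodes.Bruhat Cfsg.Agent.Nodes.StabComb
  Cfsg.Agent.Nodes.LeviDec
open Cfsg.Agent.MK.Y (sr_mul sr_single coeff_sr al_ext Sc Sc_mem mul_idem omega_Sc)
open scoped ComplexConjugate

local notation "ad" => Cfsg.Agent.MK.Y.sr

theorem mem_zp2 {G : Type} [Group G] {z a : G} (h : z * z = 1) : a ∈ zpowers z ↔ a = 1 ∨ a = z := by
  refine ⟨fun ⟨k, hk⟩ => ?_, ?_⟩
  · rw [← hk]
    rcases Int.even_or_odd' k with ⟨j, rfl | rfl⟩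
    · left
      simp only [zpow_mul, zpow_two, h, one_zpow]
    · right
      simp only [zpow_add, zpow_mul, zpow_two, h, one_zpow, one_mul, zpow_one]
  · rintro (rfl | rfl)
    exacts [one_mem _, mem_zpowers _]

theorem k0_quot {G H : Type} [Group G] [Group H] [Finite G] (φ : G →* H) (hφ : Function.Surjective φ) :
    k0 H = kk ⊤ φ.ker 1 := by
  rw [← k0_congr (topEquiv (G := H)), ← kk_bot ⊤ (l := 1) rfl, ← kk_comap φ hφ, comap_top]
  rfl

/-! ### the group algebra -/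

section alg

variable {Y : Type} [Group Y] [Fintype Y]

theorem sr_add (a b : Al Y) : ad (a + b) = ad a + ad b := al_ext fun g => by simp [coeff_sr]

theorem sr_smul' (c : ℂ) (a : Al Y) : ad (c • a) = conj c • ad a := al_ext fun g => by simp [coeff_sr]

theorem sr_sum {κ : Type} (s : Finset κ) (f : κ → Al Y) : ad (∑ k ∈ s, f k) = ∑ k ∈ s, ad (f k) := by
  classical
  induction s using Finset.induction_on with
  | empty => exact al_ext fun g => by simp [coeff_sr]
  | insert a s ha ih => rw [Finset.sum_insert ha, Finset.sum_insert ha, sr_add, ih]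

theorem sr_dl (g : Y) : ad (dl g) = dl g⁻¹ := sr_single g

theorem sr_av {P : Subgroup Y} (ψ : P →* ℂˣ) : ad (av ψ) = av ψ := by
  have := Fintype.ofFinite P
  rw [av_def, sr_smul', sr_sum, map_inv₀, map_natCast]
  congr 1
  refine Fintype.sum_equiv (Equiv.inv P) _ _ fun u => ?_
  rw [sr_smul', sr_dl, Equiv.inv_apply, map_inv ψ, inv_inv, Units.val_inv_eq_inv_val, map_inv₀,
    ← Complex.inv_eq_conj (Complex.norm_eq_one_of_pow_eq_one (Red.hom_pow_card ψ u) Nat.card_pos.ne'), inv_inv]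
  rfl

theorem sr_mp_cen {G : Type} [Group G] [Finite G] (Φ : G →* Y) {ψ : G → ℂ} (hψ : IsCharacter G ψ) :
    ad (mp Φ (cen ψ)) = mp Φ (cen ψ) := by
  have := Fintype.ofFinite G
  rw [ODD.C3.Q.cen_def, map_smul, map_sum, sr_smul', sr_sum, Red.apply_one hψ, map_mul, map_inv₀, map_natCast,
    map_natCast]
  congr 1
  refine Fintype.sum_equiv (Equiv.inv G) _ _ fun g => ?_
  rw [map_smul, map_smul, mp_dl, mp_dl, sr_smul', sr_dl, Equiv.inv_apply, inv_inv, map_inv,
    Characters.Core.isCharacter_apply_inv hψ, Complex.conj_conj]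

theorem coeff_mul_dl (a : Al Y) (g y : Y) : (a * dl g).coeff y = a.coeff (y * g⁻¹) :=
  (MonoidAlgebra.coeff_mul_single_apply a 1 g y).trans (mul_one _)

theorem coeff_dl_mul (a : Al Y) (g y : Y) : (dl g * a).coeff y = a.coeff (g⁻¹ * y) :=
  (MonoidAlgebra.coeff_single_mul_apply a 1 g y).trans (one_mul _)

theorem coeff_av_off {P : Subgroup Y} (ψ : P →* ℂˣ) {y : Y} (hy : y ∉ P) : (av ψ).coeff y = 0 := by
  have h := coeff_su (av_mem_su le_rfl ψ) (one_mem _) (z := y⁻¹) fun h => hy (inv_mem_iff.1 h)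
  rwa [mul_one, coeff_mul_dl, one_mul, inv_inv] at h

/-- orthogonal idempotents -/
theorem lin_mul_eq_zero {χ : Y → ℂ} (hχ : IsIrrCharacter Y χ) {a b : Al Y} (h : ∀ z, a * dl z * b = 0) :
    lin χ a * lin χ b = 0 := by
  classical
  have h1 : a * Sc b = 0 := by
    rw [Sc, Finset.mul_sum]
    refine Finset.sum_eq_zero fun g _ => ?_
    rw [← mul_assoc, ← mul_assoc]
    exact mul_eq_zero_of_left (h g) _
  have h2 := H992.HT.lin_idem_mul {(⟨χ, hχ⟩ : IrrCharacter Y)} ⟨χ, hχ⟩ (a * Sc b)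
  rw [if_pos (Set.mem_singleton _), H992.HT.idem_comm, mul_assoc, mul_idem (Sc_mem b), mul_smul_comm, map_smul,
    ← H992.HT.idem_comm, H992.HT.lin_idem_mul, if_pos (Set.mem_singleton _), h1, map_zero, omega_Sc, smul_eq_mul,
    ← ODD.C3.Q.lin_eq, ← ODD.C3.Q.lin_eq] at h2
  have h3 : (Nat.card Y : ℂ) ≠ 0 := Nat.cast_ne_zero.2 Nat.card_pos.ne'
  have h4 : χ 1 ≠ 0 := Characters.Core.isIrr_apply_one_ne_zero hχ
  field_simp at h2
  simpa [mul_comm] using h2

end alg

variable {I W Y : Type} [Fintype I] [DecidableEq I] [Group W] [Finite W] [Group Y] [Fintype Y]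
  {M : CoxeterMatrix I} {cs : CoxeterSystem M W} {A : I → I → ℤ} {h : IsCartan M A} {p : ℕ} {T : Subgroup Y}
  {n : I → Y} {X : (I → ℤ) → Subgroup Y} {R : RGD cs h p T n X} {F : Type} [Field F] [Fintype F] {l : I}
  {Φ : S2 F →* Y} {AT : I → I → ℤ} {hT : IsCartan M AT} {J W' : Type} [Fintype J] [DecidableEq J] [Group W']
  {M' : CoxeterMatrix J} {cs' : CoxeterSystem M' W'} {A' : J → J → ℤ} {h' : IsCartan M' A'} {β : J → I → ℤ}
  {w : J → W} {i : J → I} {g : J → Y}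

theorem T_le_LJ (l : I) : T ≤ LJ cs h T X {l} := le_sup_left

/-- **the principal series** -/
theorem count1 (N : Nd R l Φ) : Nat.card {χ // Om (eU cs h X) χ} = k0 (NN cs R.nsys) := by
  have key := count_dat (PS.dat R N.top N.comm) (MonoidHom.id _) Function.surjective_id
    (fun z hz => by rw [show z = 1 from hz]; exact ⟨map_one _, rfl⟩) (fun a ha h1 => ?_) (fun a => ?_) ?_
  · rwa [PS.dat_t, coe_one, ta_one] at key
  · have ht := (piN_eq_one R).1 ha
    rw [PS.dat_t, ta_t R ht, coeff_dl_mul, mul_one]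
    refine coeff_av_off _ fun hu => h1 (Subtype.ext ?_)
    obtain ⟨k, hk⟩ := RGD.isPGroup_Upos R ⟨_, inv_mem_iff.1 hu⟩
    have h2 := Nat.dvd_gcd (orderOf_dvd_natCard T ht) (orderOf_dvd_of_pow_eq_one (congrArg Subtype.val hk))
    rwa [(R.tcop.pow_right k).gcd_eq_one, Nat.dvd_one, orderOf_eq_one_iff] at h2
  · rw [PS.dat_t, PS.dat_t, ta, ta, sr_mul, sr_mul, sr_dl, eU, sr_av, mul_assoc]
    rfl
  · rw [PS.dat_t, coe_one, ta_one]
    exact av_ne _

theorem coeff_eV (N : Nd R l Φ) (hΦ : Function.Injective Φ) (a : Al (S2 F)) (s : S2 F) :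
    (eV cs h X l * mp Φ a).coeff (Φ s) = (Nat.card (VV cs h X l) : ℂ)⁻¹ * a.coeff s := by
  classical
  induction a using al_induction with
  | hd t =>
    rw [mp_dl, coeff_mul_dl, ← map_inv, ← map_mul]
    by_cases e : t = s
    · rw [e, mul_inv_cancel, map_one, eV, coeff_av_one]
      simp [dl]
    · rw [eV, coeff_av_off _ fun hv => e ?_]
      · simp [dl, e]
      · have := hΦ ((eq_one_of_mem_LJ_of_mem_VJ R (N.phi_mem _) (VV_eq (cs := cs) (h := h) (X := X) l ▸ hv)).trans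
          (map_one Φ).symm)
        rw [mul_inv_eq_one] at this
        exact this.symm
  | ha a b ha hb => simp only [map_add, mul_add, MonoidAlgebra.coeff_add, Finsupp.add_apply, ha, hb]
  | hs c a ha =>
    simp only [map_smul, mul_smul_comm, MonoidAlgebra.coeff_smul, Finsupp.smul_apply, ha, smul_eq_mul]
    ring

theorem coeff_eV_off (N : Nd R l Φ) (a : Al (S2 F)) {y : Y} (hy : y ∈ LJ cs h T X {l}) (h0 : ∀ s, Φ s ≠ y) :
    (eV cs h X l * mp Φ a).coeff y = 0 := by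
  induction a using al_induction with
  | hd t =>
    rw [mp_dl, coeff_mul_dl, eV, coeff_av_off _ fun hv => h0 t ?_]
    exact (mul_inv_eq_one.1 (eq_one_of_mem_LJ_of_mem_VJ R (mul_mem hy (inv_mem (N.phi_mem t)))
      (VV_eq (cs := cs) (h := h) (X := X) l ▸ hv))).symm
  | ha a b ha hb => simp only [map_add, mul_add, MonoidAlgebra.coeff_add, Finsupp.add_apply, ha, hb, add_zero]
  | hs c a ha => simp only [map_smul, mul_smul_comm, MonoidAlgebra.coeff_smul, Finsupp.smul_apply, ha, smul_zero]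

theorem eV_mp_ne (N : Nd R l Φ) (hΦ : Function.Injective Φ) {a : Al (S2 F)} (ha : a ≠ 0) :
    eV cs h X l * mp Φ a ≠ 0 := fun e => by
  have : Fintype (S2 F) := Fintype.ofFinite _
  refine ha (al_ext fun s => ?_)
  have h1 := coeff_eV N hΦ a s
  rw [e] at h1
  exact (mul_eq_zero.1 h1.symm).resolve_left (inv_ne_zero (card_ne _))

theorem center_S2 {s : S2 F} (hs : s ∈ center (S2 F)) : s = 1 ∨ s = ng F := by
  have h1 := mem_center_iff.1 hs (SL2.x 1)
  have h2 := mem_center_iff.1 hs SL2.wel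
  have a1 := congrArg SL2.e00 h1
  have a2 := congrArg SL2.e01 h1
  have a3 := congrArg SL2.e00 h2
  have a4 := SL2.det_eq s
  simp only [SL2.mul00, SL2.mul01, SL2.x00, SL2.x01, SL2.x10, SL2.x11, SL2.wel00, SL2.wel01, SL2.wel10] at a1 a2 a3
  have b1 : SL2.e10 s = 0 := by linear_combination a1
  have b2 : SL2.e11 s = SL2.e00 s := by linear_combination a2
  have b3 : SL2.e01 s = 0 := by linear_combination a3 - b1
  rw [b2, b3, zero_mul, sub_zero, mul_self_eq_one_iff] at a4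
  rcases a4 with a4 | a4
  · exact Or.inl (SL2.ext4 a4 b3 b1 (b2.trans a4))
  · exact Or.inr (SL2.ext4 a4 b3 b1 ((b2.trans a4).trans (by rw [SL2.tor11]; simp)))

variable (G : C3.Gd R hT l Φ cs' h' β w i g)

/-- the relative normaliser as a subgroup -/
def N2 : Subgroup Y := ((MonoidHom.snd W' Y).comp G.Np.subtype).range

/-- **the second series** -/
theorem count2 (hΦ : Function.Injective Φ) {f : Al (S2 F)} {φ : Multiplicative F →* ℂˣ} (C : Cusp f φ) (h0 : f ≠ 0)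
    (hs : ad (mp Φ f) = mp Φ f) (hz : dl (ng F) * f = f) :
    Nat.card {χ // Om (eV cs h X l * mp Φ f) χ} = kk (N2 G) (zpowers (Φ (ng F))) 1 := by
  have := G.finite_Np
  let z : G.Np := G.kt (G.nd.tor (-1)) tor_neg_mem
  have hc : z ∈ center G.Np := mem_center_iff.2 fun a =>
    Subtype.ext (Prod.ext ((mul_one _).trans (one_mul _).symm) (mem_CS.1 a.2.2 _).symm)
  have : (zpowers z).Normal :=
    ⟨fun a ha b => by rwa [mem_center_iff.1 (zpowers_le.2 hc ha) b, mul_inv_cancel_right]⟩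
  have hz2 : z * z = 1 := Subtype.ext (Prod.ext (mul_one _) (by
    show Φ (ng F) * Φ (ng F) = 1
    rw [← map_mul, ng_mul_ng, map_one]))
  have hm : ∀ a, a ∈ zpowers z ↔ a = 1 ∨ a = z := fun a => mem_zp2 hz2
  have key := count_dat (G.dat C) (QuotientGroup.mk' (zpowers z)) (QuotientGroup.mk'_surjective _)
    (fun a ha => ?_) (fun a ha h1 => ?_) (fun a => ?_) ?_
  · rw [Gd.dat_t, Gd.tt_one] at key
    rw [key, k0_quot _ (QuotientGroup.mk'_surjective _), QuotientGroup.ker_mk', N2, MonoidHom.range_eq_map]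
    refine Eq.symm (kk_map ((MonoidHom.snd W' Y).comp G.Np.subtype) (fun a _ => ?_) fun _ _ _ => rfl)
    rw [hm, mem_zp2 (by rw [← map_mul, ng_mul_ng, map_one])]
    refine or_congr ⟨fun e => ?_, fun e => by rw [e, map_one]⟩ ⟨fun e => ?_, fun e => by rw [e]; rfl⟩
    · exact Subtype.ext (Prod.ext (G.eq_one_of_mem_P (by rw [show a.1.2 = 1 from e]; exact one_mem _)) e)
    · exact Subtype.ext (Prod.ext (G.eq_one_of_mem_P (by rw [show a.1.2 = _ from e]; exact G.phi_mem_P _)) e)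
  · rcases (hm a).1 ((QuotientGroup.eq_one_iff a).1 ha) with rfl | rfl
    · exact ⟨map_one _, rfl⟩
    · refine ⟨rfl, ?_⟩
      rw [Gd.dat_t, Gd.dat_t, Gd.tt_one, Gd.tt]
      show _ * dl (Φ (ng F)) * _ * _ = _
      rw [mul_assoc (eV _ _ _ _), dl_comm_eV (G.nd.norm _), ← mul_assoc, eV_mul_eV, mul_assoc, ← mp_dl, ← map_mul, hz]
  · have ht := G.mem_T ha
    rw [Gd.dat_t, Gd.tt, ← t_comm_eV R ht, mul_assoc (dl _), eV_mul_eV, mul_assoc, coeff_dl_mul, mul_one]
    refine coeff_eV_off G.nd f (T_le_LJ l (inv_mem ht)) fun s e => h1 ((QuotientGroup.eq_one_iff a).2 ((hm a).2 ?_))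
    have h2 : s⁻¹ ∈ center (S2 F) := mem_center_iff.2 fun t => hΦ (by
      rw [map_mul, map_mul, map_inv, e, inv_inv, mem_CS.1 a.2.2])
    have h3 : a.1.2 = Φ s⁻¹ := by rw [map_inv, e, inv_inv]
    rcases center_S2 h2 with h4 | h4
    · exact Or.inl (Subtype.ext (Prod.ext ha (by rw [h3, h4, map_one]; rfl)))
    · exact Or.inr (Subtype.ext (Prod.ext ha (by rw [h3, h4]; rfl)))
  · have h1 : ad (eV cs h X l) = eV cs h X l := sr_av _
    rw [Gd.dat_t, Gd.dat_t, Gd.tt, Gd.tt, sr_mul, sr_mul, sr_mul, hs, h1, sr_dl, ← mul_assoc, ← mul_assoc,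
      G.nd.mp_comm, mul_assoc (eV _ _ _ _), ← cs_comm (inv_mem a.2.2), mul_assoc (eV _ _ _ _), mul_assoc (dl _),
      G.nd.mp_comm]
    simp only [mul_assoc]
    rfl
  · rw [Gd.dat_t, Gd.tt_one]
    exact eV_mp_ne G.nd hΦ h0

include G in
/-- the series are disjoint -/
theorem dis {f b : Al (S2 F)} {φ : Multiplicative F →* ℂˣ} (C : Cusp f φ) (hb : ∀ s, f * dl s * b = 0) (z : Y) :
    eV cs h X l * mp Φ f * dl z * (eV cs h X l * mp Φ b) = 0 := by
  obtain ⟨v, hz⟩ := (mem_GG R).1 (G.nd.top ▸ mem_top z)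
  obtain ⟨a, ha, s, k, hk, u, hu, rfl⟩ := G.cell_dec hz
  obtain ⟨c, hc, x, hx, rfl⟩ := exists_vx R l hu
  obtain ⟨s', rfl⟩ := (G.nd.mem x).1 hx
  have e1 : eV cs h X l * mp Φ f * dl (a * Φ (SL2.x s) * k * (c * Φ (SL2.x s'))) * (eV cs h X l * mp Φ b) =
      eV cs h X l * (mp Φ f * dl (Φ (SL2.x s)) * dl k * eV cs h X l) * (dl (Φ (SL2.x s')) * mp Φ b) := by
    rw [dl_mul, dl_mul, dl_mul, dl_mul]
    calc _ = (eV cs h X l * mp Φ f * dl a) * dl (Φ (SL2.x s)) * dl k * (dl c * (dl (Φ (SL2.x s')) * eV cs h X l)) *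
          mp Φ b := by simp only [mul_assoc]
      _ = _ := by
        rw [← G.nd.mp_comm, mul_assoc (mp Φ f), eV_mul_dl ha, G.nd.mp_comm, dl_comm_eV (G.nd.norm _),
          ← mul_assoc (dl c), dl_mul_eV hc]
        simp only [mul_assoc]
  rw [e1]
  by_cases hv : rep cs h v (sr l) = sr l ∨ rep cs h v (sr l) = -sr l
  · obtain ⟨a, s'', rfl, -⟩ := G.rep_dec hk hv
    have e2 : mp Φ f * dl (Φ (SL2.x s)) * dl a.1.2 = dl a.1.2 * (mp Φ f * dl (Φ (SL2.x s))) := by
      rw [← mp_dl, ← map_mul, cs_comm a.2.2]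
    have e3 : mp Φ f * dl (Φ (SL2.x s)) * dl (Φ s'') * eV cs h X l * (dl (Φ (SL2.x s')) * mp Φ b) = 0 := by
      rw [← mp_dl, ← mp_dl, ← mp_dl, ← map_mul, ← map_mul, G.nd.mp_comm, mul_assoc, ← map_mul, ← map_mul, ← mul_assoc,
        mul_assoc f, mul_assoc f, ← dl_mul, ← dl_mul, hb, map_zero, mul_zero]
    rw [dl_mul, ← mul_assoc (mp Φ f * _), e2, mul_assoc, mul_assoc (dl a.1.2), mul_assoc (dl a.1.2),
      mul_assoc (dl a.1.2), e3, mul_zero, mul_zero]
  · rw [not_or] at hv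
    rw [G.nd.kill C _ hk hv.1 hv.2, mul_zero, zero_mul]

end Cfsg.Agent.MK.P
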