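import Cfsg.Agent.MK.P.GB1

/-!
# MK-P: the count for a root group datum of type `C` (helper36)

* `par2` : the parity of the degree of a character of `SL₂(q)`, `q ≡ 3 mod 4`;
* `k0_even`, `k0_odd` : `k0 Y = k0 N`, `k0 Y = k0 N + 2 k`.
-/

set_option autoImplicit false
set_option linter.unusedSectionVars false

namespace Cfsg.Agent.MK.P

open Cfsg Subgroup Cfsg.Agent.MK.T Cfsg.Agent.H684.OQ Cfsg.Agent.ODD Cfsg.Agent.ODD.PS
  Cfsg.Agent.ODD.PS.C3 Cfsg.Agent.H670 Cfsg.Agent.H670.RankOne Cfsg.Agent.ODD.C3.Q Cfsg.Agent.Characters.Core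
open CoxeterSystem Cfsg.Agent.ChevalleyStructure.CoxeterGeom Cfsg.Agent.Tits.Roots Cfsg.Agent.Tits.Core
  Cfsg.Agent.Nodes.Reps Cfsg.Agent.Nodes.BNOf Cfsg.Agent.Nodes.Bruhat Cfsg.Agent.Nodes.StabComb
  Cfsg.Agent.Nodes.LeviDec
open Cfsg.Agent.MK.Y (sr_mul)

local notation "ad" => Cfsg.Agent.MK.Y.sr

section sl2

variable {F : Type} [Field F] [Fintype F]

/-- a cuspidal character of odd degree with its idempotent -/
structure Cu (ψ : IrrCharacter (S2 F)) (φ : Multiplicative F →* ℂˣ) : Prop where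
  odd : Odd (charDegree (ψ : S2 F → ℂ))
  cusp : Cusp (fc ψ φ) φ
  one : lin (ψ : S2 F → ℂ) (eph φ) = 1

/-- **the parity in `SL₂(q)`** -/
theorem par2 (hq : Fintype.card F % 4 = 3) : ∃ (ψ₁ ψ₂ : IrrCharacter (S2 F)) (φ₁ φ₂ : Multiplicative F →* ℂˣ),
    ψ₁ ≠ ψ₂ ∧ Cu ψ₁ φ₁ ∧ Cu ψ₂ φ₂ ∧ ∀ θ : S2 F → ℂ, IsCharacter _ θ → ∀ d d₀ d₁ d₂ : ℕ, θ 1 = d →
      lin θ (eph 1 * av (1 : (SL2.data F).T →* ℂˣ)) = d₀ → lin θ (fc ψ₁ φ₁) = d₁ → lin θ (fc ψ₂ φ₂) = d₂ →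
      (Odd d ↔ Odd (d₀ + d₁ + d₂)) := by
  classical
  have := finite_irr (G := S2 F)
  have : Fintype (IrrCharacter (S2 F)) := Fintype.ofFinite _
  have : Fintype (S2 F) := Fintype.ofFinite _
  have hnu : ¬ IsSquare (-1 : F) := fun h => FiniteField.isSquare_neg_one_iff.1 h hq
  obtain ⟨h, hh, hodd⟩ : ∃ h, Fintype.card F = 2 * h + 1 ∧ Odd h :=
    ⟨Fintype.card F / 2, by omega, by rw [Nat.odd_iff]; omega⟩
  have ex : ∀ t, SL2.N (-1 : F) t = 1 → ∃ ψ : IrrCharacter (S2 F), SL2.ty (-1) ψ = t := fun t ht => by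
    obtain ⟨a, ha⟩ := Finset.card_pos.1 (lt_of_lt_of_eq one_pos ht.symm)
    exact ⟨a, (Finset.mem_filter.1 ha).2⟩
  obtain ⟨-, -, -, -, c5, -, c7, c8⟩ := SL2.counts hnu hh
  obtain ⟨St, hSt⟩ := ex _ c5
  obtain ⟨ψ₁, h1⟩ := ex _ c7
  obtain ⟨ψ₂, h2⟩ := ex _ c8
  have hT := SL2.ty_triv (nu := (-1 : F)) (neg_ne_zero.2 one_ne_zero)
  have dS : charDegree (St : S2 F → ℂ) = Fintype.card F := by rw [PS.S2.deg_ty hnu St hh, hSt, hh]; ring
  have oS : Odd (charDegree (St : S2 F → ℂ)) := by rw [dS, hh]; exact odd_two_mul_add_one h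
  have oT : Odd (charDegree ((SL2.triv : IrrCharacter (S2 F)) : S2 F → ℂ)) := by
    rw [PS.S2.deg_ty hnu _ hh, hT]
    exact odd_one
  have o1 : Odd (charDegree (ψ₁ : S2 F → ℂ)) := by rw [PS.S2.deg_ty hnu _ hh, h1]; simpa using hodd
  have o2 : Odd (charDegree (ψ₂ : S2 F → ℂ)) := by rw [PS.S2.deg_ty hnu _ hh, h2]; simpa using hodd
  have cu : ∀ (ψ : IrrCharacter (S2 F)) (c : F), Odd (charDegree (ψ : S2 F → ℂ)) → (SL2.data F).n ψ 0 = 0 →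
      (SL2.data F).n ψ c = 1 → Cu ψ (psiHom c) := fun ψ c ho e0 hc => by
    have e1 : lin (ψ : S2 F → ℂ) (eph (psiHom c)) = 1 := by rw [lin_eph, Data.cf_eq_n, hc, Nat.cast_one]
    exact ⟨ho, cusp_fc ψ e1 (by rw [← psiHom_zero, lin_eph, Data.cf_eq_n, e0, Nat.cast_zero]), e1⟩
  have c1 := cu ψ₁ 1 o1 (congrArg Prod.fst h1) (congrArg (fun p => p.2.1) h1)
  have c2 := cu ψ₂ (-1) o2 (congrArg Prod.fst h2) (congrArg (fun p => p.2.2) h2)
  refine ⟨ψ₁, ψ₂, _, _, fun e => ?_, c1, c2, fun θ hθ d d₀ d₁ d₂ e e₀ e₁ e₂ => ?_⟩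
  · rw [e, h2] at h1
    exact absurd h1 (by decide)
  obtain ⟨m, rfl⟩ := exists_nat_comb hθ
  have k0 : d₀ = m St + m SL2.triv := by
    have h3 := (SL2.eq_ind_sub_one St.2 (by rw [Blocks.Basic.irr_one_eq_charDegree St.2, dS])).2.2
    rw [lin_borel (isCharacter_isClassFunction hθ), ← sub_add_cancel ((SL2.data F).ind 1) 1, ← h3,
      classInner_add_right, classInner_sum_nsmul_irr] at e₀
    have h4 := classInner_sum_nsmul_irr m SL2.triv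
    exact Nat.cast_injective (R := ℂ) (by rw [← e₀, Nat.cast_add, ← h4]; rfl)
  have k1 : ∀ {ψ : IrrCharacter (S2 F)} {φ : Multiplicative F →* ℂˣ} {k : ℕ}, Cu ψ φ →
      lin (∑ ψ : IrrCharacter (S2 F), m ψ • (ψ : S2 F → ℂ)) (fc ψ φ) = k → k = m ψ := fun {ψ φ k} c e => by
    rw [lin_comb, Finset.sum_eq_single ψ (fun χ _ hχ => by rw [fc, lin_cen_ne hχ, mul_zero])
      fun k => absurd (Finset.mem_univ _) k, fc, lin_cen_self, c.one, mul_one] at e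
    exact_mod_cast e.symm
  have k2 : d = ∑ ψ : IrrCharacter (S2 F), m ψ * charDegree (ψ : S2 F → ℂ) := by
    rw [Finset.sum_apply] at e
    simp only [Pi.smul_apply, nsmul_eq_mul, fun ψ : IrrCharacter (S2 F) => Blocks.Basic.irr_one_eq_charDegree ψ.2] at e
    exact_mod_cast e.symm
  have k3 : ∀ {χ : IrrCharacter (S2 F)} {t : ℕ × ℕ × ℕ}, Odd (charDegree (χ : S2 F → ℂ)) → SL2.ty (-1) χ = t →
      ∀ ψ, ψ = χ ↔ SL2.ty (-1) ψ = t := fun ho ht ψ =>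
    ⟨fun e => e ▸ ht, fun e => PS.S2.eq_of_ty hnu ho (e.trans ht.symm)⟩
  have k4 : ∀ ψ : IrrCharacter (S2 F), (charDegree (ψ : S2 F → ℂ) : ZMod 2) = (if ψ = St then 1 else 0) +
      (if ψ = SL2.triv then 1 else 0) + (if ψ = ψ₁ then 1 else 0) + if ψ = ψ₂ then 1 else 0 := fun ψ => by
    simp only [k3 oS hSt, k3 oT hT, k3 o1 h1, k3 o2 h2]
    rw [PS.S2.deg_ty hnu ψ hh, Nat.cast_add, Nat.cast_mul, hodd.natCast_zmod_two, one_mul]
    have ht := SL2.ty_mem hnu ψ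
    generalize SL2.ty (-1) ψ = t at ht
    simp only [SL2.tys, Finset.mem_insert, Finset.mem_singleton] at ht
    rcases ht with rfl | rfl | rfl | rfl | rfl | rfl | rfl | rfl <;> decide
  rw [← ZMod.natCast_eq_one_iff_odd, ← ZMod.natCast_eq_one_iff_odd, k0, k1 c1 e₁, k1 c2 e₂, k2, Nat.cast_sum]
  simp only [Nat.cast_mul, k4, mul_add, Finset.sum_add_distrib, mul_ite, mul_one, mul_zero, Finset.sum_ite_eq',
    Finset.mem_univ, if_true, Nat.cast_add]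

namespace Cu

variable {ψ ψ' : IrrCharacter (S2 F)} {φ φ' : Multiplicative F →* ℂˣ} (c : Cu ψ φ)

include c

theorem ne : fc ψ φ ≠ 0 := fun e => by
  have h := c.one
  rw [← lin_cen_self, ← fc, e, map_zero] at h
  exact zero_ne_one h

omit c in
theorem orth (h : ψ ≠ ψ') (s : S2 F) : fc ψ φ * dl s * fc ψ' φ' = 0 := by
  have h1 : cen (ψ : S2 F → ℂ) * cen (ψ' : S2 F → ℂ) = 0 := H992.HT.idem_eq_zero (cen_idem ψ (cen_mul_cen ψ')) fun χ => by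
    rw [← lin_eq]
    by_cases e : χ = ψ
    · rw [e, lin_cen_self, ← mul_one (cen _), lin_cen_ne h]
    · exact lin_cen_ne e _
  rw [fc, fc, mul_assoc (cen _), ← mul_assoc _ (cen (ψ' : S2 F → ℂ)), mul_assoc (cen _), ← cen_comm ψ', ← mul_assoc, h1,
    zero_mul, zero_mul]

omit c in
theorem ng_mul (h : (ψ : S2 F → ℂ) (ng F) = (ψ : S2 F → ℂ) 1) : dl (ng F) * fc ψ φ = fc ψ φ := by
  have := Fintype.ofFinite (S2 F)
  rw [fc, ← mul_assoc, cen_def, mul_smul_comm, Finset.mul_sum]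
  congr 2
  refine Fintype.sum_equiv (Equiv.mulLeft (ng F)) _ _ fun s => ?_
  rw [mul_smul_comm, ← dl_mul, Equiv.coe_mulLeft, mul_inv_rev, inv_eq_of_mul_eq_one_right ng_mul_ng,
    mem_center_iff.1 ng_mem, Red.apply_mul_of_ker (isIrr_isCharacter ψ.2) h]

end Cu

end sl2

theorem odd_iff_of_ev {z : ℂ} {d k : ℕ} (hz : Lev.Ev (z - d)) (hk : z = k) : Odd d ↔ Odd k := by
  have h1 := H381.OQ.two_dvd_of (m := (k : ℤ) - d) hz (by push_cast; rw [← hk]; ring)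
  rw [Nat.odd_iff, Nat.odd_iff]
  omega

theorem par_av {Y : Type} [Group Y] [Finite Y] {P : Subgroup Y} (hP : Odd (Nat.card P)) {χ : Y → ℂ}
    (hχ : IsCharacter Y χ) (h : Lev.Ev (∑ᶠ u : P, χ u - χ 1)) {d : ℕ} (hd : lin χ (av (P := P) 1) = d) :
    Odd (charDegree χ) ↔ Odd d := by
  have := Fintype.ofFinite P
  rw [Red.apply_one hχ] at h
  rw [odd_iff_of_ev h (k := Nat.card P * d), Nat.odd_mul, and_iff_right hP]
  rw [Nat.cast_mul, ← hd, ← one_mul (av _), ← mul_one (1 * _), lin_av, smul_eq_mul,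
    mul_inv_cancel_left₀ (card_ne _), finsum_eq_sum_of_fintype]
  exact Finset.sum_congr rfl fun u _ => by simp [lin_dl]

theorem card_or {α : Type} {p q : α → Prop} [Finite {a // p a}] [Finite {a // q a}] (h : ∀ a, p a → ¬ q a) :
    Nat.card {a // p a ∨ q a} = Nat.card {a // p a} + Nat.card {a // q a} := by
  classical
  rw [← Nat.card_sum]
  exact Nat.card_congr (subtypeOrEquiv p q (by
    rw [disjoint_iff]
    funext a
    exact propext ⟨fun h' => h a h'.1 h'.2, False.elim⟩))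

variable {m : ℕ} {W Y : Type} [Group W] [Finite W] [Group Y] [Fintype Y]
  {cs : CoxeterSystem (CoxeterMatrix.B (m + 1)) W} {p : ℕ} {T : Subgroup Y}
  {n : Fin (m + 1) → Y} {X : (Fin (m + 1) → ℤ) → Subgroup Y} {F : Type} [Field F] [Fintype F]
  {R : RGD cs (Nodes.TypeC.isCartan (m + 1)) p T n X} {Φ : S2 F →* Y} {gg : Fin (m + 1) → Y}

local notation "hC" => Nodes.TypeC.isCartan (m + 1)

/-- **even rank** -/
theorem k0_even (S : Sp R Φ gg) (hP : Par cs X) (hp : p.Prime) (hp2 : p ≠ 2) (hm : Even (m + 1)) :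
    k0 Y = k0 (NN cs R.nsys) := by
  rw [← count1 S.nd]
  refine Nat.card_congr (Equiv.subtypeEquivRight fun χ => and_congr_right fun hχ => ?_)
  have hc := isIrr_isCharacter hχ
  obtain ⟨d, hd⟩ := lin_idem hc (eU_mul_eU (cs := cs) (h := hC) (X := X))
  rw [par_av (odd_U R hp hp2) hc ((hP χ hc).1 hm) hd]
  exact ⟨fun h => ⟨d, h, hd⟩, fun ⟨d', h, hd'⟩ => by rwa [Nat.cast_injective (R := ℂ) (hd.symm.trans hd')]⟩

/-- an element which exchanges the first coordinates in pairs -/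
def Sw (R : RGD cs hC p T n X) (Φ : S2 F →* Y) : Prop :=
  ∃ y ∈ NN cs R.nsys, y ∈ CS Φ ∧ y * y ∈ T ∧ ∃ t ∈ T, t ∈ CS Φ ∧ y⁻¹ * t * y = Φ (ng F) * t

theorem mp_avT (Φ : S2 F →* Y) : mp Φ (av (1 : (SL2.data F).T →* ℂˣ)) = av (P := (Φ.comp SL2.tor).range) 1 :=
  mp_av Φ (P := (SL2.data F).T) (Q := (Φ.comp SL2.tor).range) fun _ =>
    ⟨fun ⟨u, hu⟩ => ⟨_, ⟨u, rfl⟩, hu⟩, by rintro ⟨_, ⟨u, rfl⟩, hu⟩; exact ⟨u, hu⟩⟩

theorem eU_comm_av (S : Sp R Φ gg) :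
    eU cs hC X * av (P := (Φ.comp SL2.tor).range) 1 = av (P := (Φ.comp SL2.tor).range) 1 * eU cs hC X := by
  rw [← mp_avT Φ]
  have := Fintype.ofFinite (SL2.data F).T
  rw [av_def, map_smul, map_sum, mul_smul_comm, smul_mul_assoc, Finset.mul_sum, Finset.sum_mul]
  refine congrArg _ (Finset.sum_congr rfl ?_)
  rintro ⟨_, u, rfl⟩ -
  rw [map_smul, mp_dl, mul_smul_comm, smul_mul_assoc, dl_t_comm_eU R (S.nd.tor u)]

/-- the weights which are not trivial on the torus of the last node -/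
theorem par_U (S : Sp R Φ gg) (h4 : Fintype.card F % 4 = 3) (hs : Sw R Φ) {χ : Y → ℂ} (hχ : IsCharacter Y χ) {d d₀ : ℕ}
    (hd : lin χ (eU cs hC X) = d) (h0 : lin χ (eU cs hC X * av (P := (Φ.comp SL2.tor).range) 1) = d₀) :
    Odd d ↔ Odd d₀ := by
  obtain ⟨y, hy, hy1, hy2, t, ht, ht1, ht2⟩ := hs
  obtain ⟨v, hv⟩ := mem_NN.1 hy
  have N := S.nd
  have hk : Rp cs R.nsys (v * cs.simple (Fin.last m)) (y * Φ SL2.wel) := hv.mul N.wel
  have hw : ∀ ν : (PS.dat R N.top N.comm).Wt, ∃ lam, ν = wt R N.top N.comm lam := fun ν =>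
    ⟨ν.comp (kerT R N.top N.comm).symm.toMonoidHom, MonoidHom.ext fun t => by simp [wt]⟩
  have hcm := eU_comm_av S
  obtain ⟨d₁, hd₁⟩ := lin_idem hχ (e := eU cs hC X * (1 - av (P := (Φ.comp SL2.tor).range) 1)) (by
    rw [mul_sub, mul_one, mul_sub, sub_mul, sub_mul, eU_mul_eU, ← mul_assoc, eU_mul_eU, mul_assoc (eU _ _ _), ← hcm,
      ← mul_assoc, eU_mul_eU, ← mul_assoc, mul_assoc (eU _ _ _), ← hcm, ← mul_assoc, eU_mul_eU, mul_assoc, av_mul_av,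
      sub_self, sub_zero])
  have h1 : d = d₀ + d₁ := Nat.cast_injective (R := ℂ) (by
    rw [Nat.cast_add, ← hd, ← h0, ← hd₁, ← map_add, ← mul_add, add_sub_cancel, mul_one])
  have conj1 : ∀ u, (y * Φ SL2.wel)⁻¹ * Φ (SL2.tor u) * (y * Φ SL2.wel) = Φ (SL2.tor u⁻¹) := fun u => by
    have h1 := congrArg Φ (SL2.wel_mul_tor u⁻¹)
    rw [inv_inv, map_mul, map_mul] at h1
    rw [mul_assoc, ← mul_assoc (Φ _), mem_CS.1 hy1, mul_assoc, ← h1]
    group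
  suffices h2 : ¬ Odd d₁ by
    rw [h1, Nat.odd_add, iff_true_intro (Nat.not_odd_iff_even.1 h2), iff_true]
  intro h2
  obtain ⟨ν, h3, h5, -⟩ := exists_fix_odd (PS.dat R N.top N.comm) hχ (a := ⟨_, mem_NN.2 ⟨_, hk⟩⟩)
    ((piN_eq_one R).2 (by
      show y * Φ SL2.wel * (y * Φ SL2.wel) ∈ T
      rw [mul_assoc, ← mul_assoc (Φ _), mem_CS.1 hy1, ← mul_assoc, ← mul_assoc, mul_assoc (y * y)]
      exact mul_mem hy2 (Rp.mem_of_one (cs.simple_mul_simple_self (Fin.last m) ▸ N.wel.mul N.wel))))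
    (fun ν => ¬ ∀ u, ν ((kerT R N.top N.comm).symm ⟨_, N.tor u⟩) = 1) (fun ν hν h => hν fun u => by
      rw [← h u⁻¹, AH.Dat.act_apply]
      refine congrArg ν (Subtype.ext (Subtype.ext ?_))
      exact ((conj1 u⁻¹).trans (by rw [inv_inv]; rfl)).symm)
    (z := 1 - av (P := (Φ.comp SL2.tor).range) 1) (fun ν hν => by
      obtain ⟨lam, rfl⟩ := hw ν
      obtain ⟨u, hu⟩ := not_forall.1 hν
      rw [E_wt, mul_sub, mul_one, sub_eq_self]
      have h1 : (((lam ⟨_, N.tor u⟩ : ℂˣ) : ℂ) - 1) •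
          (H684.OQ.eB R lam * av (P := (Φ.comp SL2.tor).range) 1) = 0 := by
        rw [sub_smul, one_smul, ← smul_mul_assoc, ← eB_mul_t R lam (N.tor u), mul_assoc,
          C3.dl_mul_av_one (P := (Φ.comp SL2.tor).range) (u := Φ (SL2.tor u)) ⟨u, rfl⟩, sub_self]
      exact (smul_eq_zero.1 h1).resolve_left fun h2 => hu (Units.val_eq_one.1 (sub_eq_zero.1 h2))) (fun ν hν => by
      obtain ⟨lam, rfl⟩ := hw ν
      rw [E_wt, mul_sub, mul_one, sub_eq_zero]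
      refine (mul_av_eq _ ?_).symm
      rintro ⟨_, u, rfl⟩
      exact (eB_mul_t R lam (N.tor u)).trans (congrArg (fun c : ℂˣ => (c : ℂ) • _) (not_not.1 hν u)))
    (by rw [PS.dat_t, Subgroup.coe_one, ta_one]; exact ⟨d₁, h2, hd₁⟩)
  obtain ⟨lam, rfl⟩ := hw ν
  have h6 := (mem_Nl R N.top N.comm).1 h5
  have h7 : ∀ u, lam ⟨_, N.tor (u * u)⟩ = 1 := fun u => by
    have h8 := h6 _ (N.tor u) (conj_T' R hk (N.tor u))
    have h9 : lam ⟨_, N.tor (u * u)⟩ * lam ⟨_, N.tor u⁻¹⟩ = lam ⟨_, N.tor u⟩ := by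
      rw [← map_mul]
      refine congrArg lam (Subtype.ext ?_)
      show Φ _ * Φ _ = Φ _
      rw [← map_mul, ← map_mul, mul_inv_cancel_right]
    rw [h8, show (⟨_, conj_T' R hk (N.tor u)⟩ : T) = ⟨_, N.tor u⁻¹⟩ from Subtype.ext (conj1 u)] at h9
    exact mul_eq_right.1 h9
  have h8 : lam ⟨_, N.tor (-1)⟩ = 1 := by
    have h9 := h6 t ht (conj_T' R hk ht)
    rw [show (⟨_, conj_T' R hk ht⟩ : T) = ⟨_, N.tor (-1)⟩ * ⟨t, ht⟩ from Subtype.ext (by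
      show (y * Φ SL2.wel)⁻¹ * t * (y * Φ SL2.wel) = Φ (ng F) * t
      rw [mul_inv_rev, mul_assoc, mul_assoc, ← mul_assoc t, ← mul_assoc y⁻¹, ← mul_assoc y⁻¹, ht2,
        ← mem_CS.1 (mul_mem tor_neg_mem ht1), inv_mul_cancel_left]), map_mul] at h9
    exact mul_eq_right.1 h9.symm
  refine h3 fun u => ?_
  show lam ⟨_, N.tor u⟩ = 1
  have hnu : ¬ IsSquare (-1 : F) := fun h => FiniteField.isSquare_neg_one_iff.1 h h4
  have sq : ∀ u : Fˣ, IsSquare (u : F) → lam ⟨_, N.tor u⟩ = 1 := by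
    rintro u ⟨r, hr⟩
    have hr0 : r ≠ 0 := fun e => u.ne_zero (by rw [hr, e, mul_zero])
    rw [show u = Units.mk0 r hr0 * Units.mk0 r hr0 from Units.ext hr]
    exact h7 _
  by_cases hu : IsSquare (u : F)
  · exact sq u hu
  · classical
    have h9 : IsSquare ((-1 * u : Fˣ) : F) := by
      rw [← quadraticChar_one_iff_isSquare (Units.ne_zero _), Units.val_mul, map_mul,
        quadraticChar_neg_one_iff_not_isSquare.2 hu, Units.val_neg, Units.val_one,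
        quadraticChar_neg_one_iff_not_isSquare.2 hnu]
      rfl
    have h10 := sq _ h9
    rwa [show (⟨_, N.tor (-1 * u)⟩ : T) = ⟨_, N.tor (-1)⟩ * ⟨_, N.tor u⟩ from Subtype.ext (by
      show Φ _ = Φ _ * Φ _
      rw [map_mul, map_mul]), map_mul, h8, one_mul] at h10

/-- **odd rank** -/
theorem k0_odd (S : Sp R Φ gg) (hP : Par cs X) (hp : p.Prime) (hp2 : p ≠ 2) (h4 : Fintype.card F % 4 = 3)
    (hm : Odd (m + 1)) (hs : Sw R Φ) (hΦ : Function.Injective Φ) (hz : ∀ χ, OI (S2 F) χ → χ (ng F) = χ 1) :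
    k0 Y = k0 (NN cs R.nsys) + 2 * kk (N2 S.gd) (zpowers (Φ (ng F))) 1 := by
  obtain ⟨ψ₁, ψ₂, φ₁, φ₂, hne, c₁, c₂, hpar⟩ := par2 h4
  have N := S.nd
  have cnt : ∀ {ψ : IrrCharacter (S2 F)} {φ : Multiplicative F →* ℂˣ}, Cu ψ φ →
      Nat.card {χ // Om (eV cs hC X (Fin.last m) * mp Φ (fc ψ φ)) χ} = kk (N2 S.gd) (zpowers (Φ (ng F))) 1 :=
    fun {ψ φ} c => count2 S.gd hΦ c.cusp c.ne (by
      have e : φ = (φ.comp (MulEquiv.ofBijective _ N.xl_bij).symm.toMonoidHom).comp N.xl :=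
        MonoidHom.ext fun r => congrArg φ ((MulEquiv.ofBijective _ N.xl_bij).symm_apply_apply r).symm
      have h1 : ad (mp Φ (eph φ)) = mp Φ (eph φ) := by rw [e, N.mp_eph, sr_av]
      rw [fc, map_mul, sr_mul, h1, sr_mp_cen Φ (isIrr_isCharacter ψ.2), ← map_mul, ← map_mul, cen_comm])
      (Cu.ng_mul (hz _ ⟨ψ.2, c.odd⟩))
  have fin : ∀ e : Al Y, Finite {χ // Om e χ} := fun e => H.finite_sub fun _ h => h.1
  have ne : ∀ {e : Al Y} {χ : Y → ℂ}, Om e χ → lin χ e ≠ 0 := fun ⟨_, d, hd, h⟩ => by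
    rw [h]
    exact Nat.cast_ne_zero.2 hd.pos.ne'
  have d1 : ∀ {ψ : IrrCharacter (S2 F)} {φ : Multiplicative F →* ℂˣ}, Cu ψ φ → ∀ χ, IsIrrCharacter Y χ →
      lin χ (eV cs hC X (Fin.last m) * mp Φ (fc ψ φ)) * lin χ (eU cs hC X) = 0 := fun c χ hχ => by
    rw [← eV_mul_eph N]
    exact lin_mul_eq_zero hχ (dis S.gd c.cusp c.cusp.cusp)
  have d2 : ∀ χ, IsIrrCharacter Y χ → lin χ (eV cs hC X (Fin.last m) * mp Φ (fc ψ₁ φ₁)) *
      lin χ (eV cs hC X (Fin.last m) * mp Φ (fc ψ₂ φ₂)) = 0 := fun χ hχ =>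
    lin_mul_eq_zero hχ (dis S.gd c₁.cusp (Cu.orth hne))
  have := fin (eU cs hC X)
  have := fin (eV cs hC X (Fin.last m) * mp Φ (fc ψ₁ φ₁))
  have := fin (eV cs hC X (Fin.last m) * mp Φ (fc ψ₂ φ₂))
  have : Finite {χ // Om (eV cs hC X (Fin.last m) * mp Φ (fc ψ₁ φ₁)) χ ∨
      Om (eV cs hC X (Fin.last m) * mp Φ (fc ψ₂ φ₂)) χ} := H.finite_sub fun _ h => h.elim (·.1) (·.1)
  rw [← count1 N, two_mul]
  nth_rewrite 1 [← cnt c₁]
  rw [← cnt c₂, ← card_or fun χ h h' => mul_ne_zero (ne h) (ne h') (d2 χ h.1), ← card_or fun χ h h' =>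
    h'.elim (fun h' => mul_ne_zero (ne h') (ne h) (d1 c₁ χ h.1)) fun h' => mul_ne_zero (ne h') (ne h) (d1 c₂ χ h.1)]
  refine Nat.card_congr (Equiv.subtypeEquivRight fun χ => ?_)
  rw [Om, Om, Om, ← and_or_left, ← and_or_left]
  refine and_congr_right fun hχ => ?_
  have hc := isIrr_isCharacter hχ
  have idem : ∀ {f : Al (S2 F)}, f * f = f → ∃ d : ℕ, lin χ (eV cs hC X (Fin.last m) * mp Φ f) = d := fun {f} hf =>
    lin_idem hc (by rw [mul_assoc, ← mul_assoc (mp Φ f), N.mp_comm, ← mul_assoc, ← mul_assoc, eV_mul_eV, mul_assoc,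
      ← map_mul, hf])
  obtain ⟨dV, hV⟩ := lin_idem hc (eV_mul_eV (cs := cs) (h := hC) (X := X) (l := Fin.last m))
  obtain ⟨dU, hU⟩ := lin_idem hc (eU_mul_eU (cs := cs) (h := hC) (X := X))
  obtain ⟨d₁, h₁⟩ := idem c₁.cusp.idem
  obtain ⟨d₂, h₂⟩ := idem c₂.cusp.idem
  obtain ⟨d₀, h₀⟩ := lin_idem hc (e := eU cs hC X * av (P := (Φ.comp SL2.tor).range) 1) (by
    rw [mul_assoc, ← mul_assoc (av _), ← eU_comm_av S, ← mul_assoc, ← mul_assoc, eU_mul_eU, mul_assoc, av_mul_av])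
  have h5 := hpar _ (isCharacter_corner Φ hc (e := eV cs hC X (Fin.last m)) (av_mul_av _) (eV_comm N)) dV d₀ d₁ d₂
    (by rw [map_one, dl_one, mul_one, hV]) (by rw [lin_mp, map_mul (mp Φ), ← mul_assoc, eV_mul_eph N, mp_avT, h₀])
    (by rw [lin_mp, h₁]) (by rw [lin_mp, h₂])
  have h6 := par_U S h4 hs hc hU h₀
  have h7 : Odd (Nat.card (VV cs hC X (Fin.last m))) :=
    (odd_U R hp hp2).of_dvd_nat (card_dvd_of_le (V_le_U (Fin.last m)))
  have e1 := d1 c₁ χ hχ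
  have e2 := d1 c₂ χ hχ
  have e3 := d2 χ hχ
  rw [par_av h7 hc ((hP χ hc).2 hm) hV, h5]
  simp only [hU, h₁, h₂, Nat.cast_inj, ← Nat.cast_mul, Nat.cast_eq_zero, mul_eq_zero, exists_eq_right'] at e1 e2 e3 ⊢
  simp only [Nat.odd_iff] at h6 ⊢
  omega

end Cfsg.Agent.MK.P
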