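import Cfsg.Agent.ODD.PS.C3Main
import Cfsg.Agent.MK.P.Defs

/-!
# MK-P: automorphisms which fix the characters of odd degree, type `C` (helper36)

* `Av R l Φ δ` : `δ` fixes the data (the torus only modulo squares);
* `fix_av` : `χ ∘ δ = χ`.
-/

set_option autoImplicit false
set_option linter.unusedSectionVars false

namespace Cfsg.Agent.MK.P

open Cfsg Cfsg.Agent.ODD Cfsg.Agent.ODD.PS Cfsg.Agent.ODD.PS.C3
open CoxeterSystem Cfsg.Agent.ChevalleyStructure.CoxeterGeom Cfsg.Agent.Tits.Roots Cfsg.Agent.Tits.Core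
  Cfsg.Agent.Nodes.Reps Cfsg.Agent.Nodes.BNOf Cfsg.Agent.Nodes.Bruhat Cfsg.Agent.Nodes.StabComb
  Cfsg.Agent.Nodes.SubComb Cfsg.Agent.Nodes.LeviDec Cfsg.Agent.Nodes.NormalForm Cfsg.Agent.Nodes.OppDec
  Cfsg.Agent.H684.OQ Cfsg.Agent.H670 Cfsg.Agent.H381.OQ Cfsg.Agent.ODD.Red Cfsg.Agent.Characters

local notation "σ₁" => RingEquiv.refl ℂ

/-- an invariant nontrivial character -/
theorem exists_inv {A : Type} [Group A] [Finite A] (hc : ∀ a b : A, a * b = b * a) (d : A →* A) {x : A} (hx : x ≠ 1)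
    (hd : d x = x) : ∃ f : A →* ℂˣ, f ≠ 1 ∧ ∀ a, f (d a) = f a := by
  let _ : CommGroup A := { (inferInstance : Group A) with mul_comm := hc }
  have h1 : ¬ Function.Surjective (d / MonoidHom.id A) := fun h => hx (Finite.injective_iff_surjective.2 h (by
    rw [map_one, MonoidHom.div_apply, hd, MonoidHom.id_apply, div_self']))
  obtain ⟨y, hy⟩ := not_forall.1 h1
  obtain ⟨f, hf⟩ := CommGroup.exists_apply_ne_one_of_hasEnoughRootsOfUnity (A ⧸ (d / MonoidHom.id A).range) ℂ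
    (a := QuotientGroup.mk y) fun e => hy ((QuotientGroup.eq_one_iff _).1 e)
  refine ⟨f.comp (QuotientGroup.mk' _), fun e => hf (DFunLike.congr_fun e y), fun a => congrArg f ?_⟩
  exact (QuotientGroup.eq_iff_div_mem).2 ⟨a, rfl⟩

section gen

variable {I W Y : Type} [Fintype I] [DecidableEq I] [Group W] [Finite W] [Group Y] [Finite Y]
  {M : CoxeterMatrix I} {cs : CoxeterSystem M W} {A : I → I → ℤ} {h : IsCartan M A} {p : ℕ} {T : Subgroup Y}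
  {n : I → Y} {X : (I → ℤ) → Subgroup Y} {R : RGD cs h p T n X} {F : Type} [Field F] [Fintype F] {l : I}
  {Φ : S2 F →* Y} {AT : I → I → ℤ} {hT : IsCartan M AT} {J W' : Type} [Fintype J] [DecidableEq J] [Group W']
  [Finite W'] {M' : CoxeterMatrix J} {cs' : CoxeterSystem M' W'} {A' : J → J → ℤ} {h' : IsCartan M' A'}
  {β : J → I → ℤ} {w : J → W} {i : J → I} {g : J → Y}

/-- `δ` fixes the data -/
structure Av (R : RGD cs h p T n X) (Φ : S2 F →* Y) (δ : Y ≃* Y) : Prop where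
  sqT : ∀ t ∈ T, ∃ s ∈ T, δ t = t * (s * s)
  mapX : ∀ a, ∀ u ∈ X a, δ u ∈ X a
  mapn : ∀ i, ∃ k, Rp cs R.nsys (cs.simple i) k ∧ δ k = k
  pt : ∀ i, (∀ a ∈ X (sr i), ∀ b ∈ X (sr i), a * b = b * a) ∧ ∃ x ∈ X (sr i), x ≠ 1 ∧ δ x = x
  sl2 : ∃ d : S2 F ≃* S2 F, (∀ s, δ (Φ s) = Φ (d s)) ∧ ∀ ψ, OI (S2 F) ψ → ∀ s, ψ (d s) = ψ s

namespace Av

variable {δ : Y ≃* Y} (a : Av R Φ δ)

include a

theorem mapT {t : Y} (ht : t ∈ T) : δ t ∈ T := by
  obtain ⟨s, hs, e⟩ := a.sqT t ht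
  exact e ▸ mul_mem ht (mul_mem hs hs)

theorem val {lam : ↥T →* ℂˣ} (hl : ∀ t, lam t ^ 2 = 1) {t : Y} (ht : t ∈ T) : lam ⟨δ t, a.mapT ht⟩ = lam ⟨t, ht⟩ := by
  obtain ⟨s, hs, e⟩ := a.sqT t ht
  rw [show (⟨δ t, a.mapT ht⟩ : T) = ⟨t, ht⟩ * (⟨s, hs⟩ * ⟨s, hs⟩) from Subtype.ext e, map_mul, map_mul, ← pow_two, hl,
    mul_one]

theorem mapSup (S : Set (I → ℤ)) (u : Y) (hu : u ∈ RGD.Sup X S) : δ u ∈ RGD.Sup X S := by
  have h1 : RGD.Sup X S ≤ (RGD.Sup X S).comap δ.toMonoidHom :=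
    RGD.Sup_le fun b hb x hx => RGD.le_Sup hb (a.mapX b x hx)
  exact h1 hu

theorem mapU (u : Y) (hu : u ∈ UU cs h X) : δ u ∈ UU cs h X := a.mapSup _ u hu

theorem mapN (v : W) : ∀ {k : Y}, Rp cs R.nsys v k → k⁻¹ * δ k ∈ T := by
  induction v using cs.simple_induction_right with
  | one => exact fun hk => mul_mem (inv_mem hk.mem_of_one) (a.mapT hk.mem_of_one)
  | mul_simple_right v i ih =>
    intro k hk
    obtain ⟨k₀, hni, e₀⟩ := a.mapn i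
    have hk' : Rp cs R.nsys v (k * k₀⁻¹) := by
      have := hk.mul hni.inv
      rwa [mul_inv_cancel_right] at this
    have h1 := conj_T' R hni (ih hk')
    rwa [map_mul, map_inv, e₀, show k₀⁻¹ * ((k * k₀⁻¹)⁻¹ * (δ k * k₀⁻¹)) * k₀ = k⁻¹ * δ k by group] at h1

theorem mapC {k : Y} (hk : k ∈ CS Φ) : δ k ∈ CS Φ := by
  obtain ⟨d, hd, -⟩ := a.sl2
  refine mem_CS.2 fun s => ?_
  rw [← d.apply_symm_apply s, ← hd, ← map_mul, mem_CS.1 hk, map_mul]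

theorem tw_eV : AH.tw σ₁ δ (eV cs h X l) = eV cs h X l := tw_av σ₁ δ _ (a.mapSup _) fun _ _ => by simp

theorem psi : ∃ psi : ↥(UU cs h X) →* ℂˣ, Nondeg psi ∧
    ∀ u (hu : u ∈ UU cs h X), ((psi ⟨δ u, a.mapU u hu⟩ : ℂˣ) : ℂ) = σ₁ (psi ⟨u, hu⟩ : ℂˣ) := by
  classical
  choose π hπ1 hπ2 using exists_projX R
  have h1 : ∀ i : I, ∃ f : ↥(X (sr i)) →* ℂˣ, f ≠ 1 ∧ ∀ x hx, f ⟨δ x, a.mapX _ x hx⟩ = f ⟨x, hx⟩ := fun i => by
    obtain ⟨hc, x, hx, hx1, e⟩ := a.pt i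
    obtain ⟨f, h2, h3⟩ := exists_inv (A := X (sr i)) (fun u v => Subtype.ext (hc _ u.2 _ v.2))
      ((δ.toMonoidHom.comp (X (sr i)).subtype).codRestrict _ fun u => a.mapX _ u u.2) (x := ⟨x, hx⟩)
      (fun h2 => hx1 (congrArg Subtype.val h2)) (Subtype.ext e)
    exact ⟨f, h2, fun x hx => h3 ⟨x, hx⟩⟩
  choose F hF hF' using h1
  refine ⟨∏ j, (F j).comp (π j), fun i => ?_, fun u hu => congrArg Units.val ?_⟩
  · by_contra hcon
    push Not at hcon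
    refine hF i (MonoidHom.ext fun x => ?_)
    have h2 := hcon x x.2
    rw [MonoidHom.finsetProd_apply, Finset.prod_eq_single i, MonoidHom.comp_apply, hπ1 i x x.2] at h2
    · exact h2
    · intro j _ hj
      rw [MonoidHom.comp_apply, hπ2 j x (RGD.le_Sup (S := RGD.PosNe cs h j)
        ⟨isRoot_sr cs h i, sr_nonneg i, fun he => by
          have h3 := congrFun he i
          rw [sr_self, sr_ne (Ne.symm hj)] at h3
          exact one_ne_zero h3⟩ x.2), map_one]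
    · intro hi
      exact absurd (Finset.mem_univ i) hi
  · rw [MonoidHom.finsetProd_apply, MonoidHom.finsetProd_apply]
    refine Finset.prod_congr rfl fun j _ => ?_
    obtain ⟨v, hv, k, hk, rfl⟩ := exists_vx R j hu
    have hk' := a.mapX _ k hk
    have hv' := a.mapSup _ v hv
    have e1 : (⟨v * k, hu⟩ : ↥(UU cs h X)) = ⟨v, V_le_U j hv⟩ * ⟨k, X_le_U j hk⟩ := rfl
    have e2 : (⟨δ (v * k), a.mapU _ hu⟩ : ↥(UU cs h X)) = ⟨δ v, V_le_U j hv'⟩ * ⟨δ k, X_le_U j hk'⟩ :=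
      Subtype.ext (map_mul δ v k)
    rw [MonoidHom.comp_apply, MonoidHom.comp_apply, e1, e2, map_mul (π j), map_mul (π j), hπ2 j v hv, hπ2 j _ hv',
      hπ1 j k hk, hπ1 j _ hk', one_mul, one_mul, hF' j k hk]

end Av

variable (G : C3.Gd R hT l Φ cs' h' β w i g) (hM : AH.Main) {gg : I → Y} (K : Cor R hT 0 gg)
  (hgen : T ≤ Subgroup.closure (Set.range gg)) {δ : Y ≃* Y} (a : Av R Φ δ) {χ : Y → ℂ} (hχ : IsIrrCharacter Y χ)

include G hM K hgen a hχ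

/-- **the second series** -/
theorem fix2 (h4 : Fintype.card F % 4 = 3) {psi : ↥(UU cs h X) →* ℂˣ} (hpsi : Nondeg psi)
    (hδ : ∀ u (hu : u ∈ UU cs h X), ((psi ⟨δ u, a.mapU u hu⟩ : ℂˣ) : ℂ) = σ₁ (psi ⟨u, hu⟩ : ℂˣ))
    {f : Al (S2 F)} (C : Cusp f ((psiL l psi).comp G.nd.xl)) (hf : AH.tw σ₁ δ (mp Φ f) = mp Φ f)
    (hodd : ∃ d : ℕ, Odd d ∧ lin χ (eV cs h X l * mp Φ f) = d) (z : Y) : χ (δ z) = χ z := by
  obtain ⟨v, hv, hv'⟩ := G.sb.neg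
  obtain ⟨y, hy⟩ := G.exists_y hv
  have h1 : (G.dat C).π (y * y) = 1 := G.ph_injective (by
    show G.ph (y.1.1 * y.1.1) = _
    rw [map_mul, eq_mul_inv_of_mul_eq hy, cs.inv_simple, mul_assoc, ← mul_assoc (cs.simple l), ← neg_comm hv,
      cs.simple_mul_simple_cancel_right, neg_sq hv, map_one])
  obtain ⟨ν, -, h2, h3⟩ := exists_fix_odd (G.dat C) (Characters.Core.isIrr_isCharacter hχ) h1 (fun _ => True)
    (fun _ _ => trivial) (z := 1) (fun _ _ => mul_one _) (fun _ h => absurd trivial h)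
    (by rwa [mul_one, C3.Gd.dat_t, C3.Gd.tt_one])
  obtain ⟨lam, rfl, h5⟩ := G.exists_ext C h4 ν
  have h6 : v ∈ Wst R lam := hy ▸ mul_mem (G.ph_mem C h2) (G.nd.wel_mem h5)
  have hl : ∀ t, lam t ^ 2 = 1 := K.pow_of_gen hgen fun j => K.sq_of_neg (fun _ => pow_zero _) h6 (hv' _)
  have hE : (G.dat C).E (G.res C lam) ≠ 0 := fun h0 => by
    obtain ⟨m, hm, e⟩ := h3
    rw [h0, map_zero] at e
    exact hm.pos.ne (by exact_mod_cast e)
  have hsq := fun u => G.sq_mem C (K.mono (dvd_zero 2)) hl hE (v := u)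
  have ht : ∀ b : G.Np, ∃ c : (G.dat C).π.ker, AH.tw σ₁ δ (G.tt f b) = G.tt f (b * c) :=
    fun b => ⟨⟨G.kt (a.mapN _ b.2.1) (mul_mem (inv_mem b.2.2) (a.mapC b.2.2)), rfl⟩, by
      rw [C3.Gd.tt, map_mul, map_mul, map_mul, a.tw_eV, hf, AH.tw_dl]
      exact congrArg (fun x => eV cs h X l * dl x * eV cs h X l * mp Φ f) (mul_inv_cancel_left b.1.2 (δ b.1.2)).symm⟩
  have hS : AH.tw σ₁ δ ((G.dat C).E (G.res C lam)) = (G.dat C).E (G.res C lam) := by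
    have := Fintype.ofFinite (G.dat C).π.ker
    rw [AH.Dat.E_def, AH.tw_smul, map_inv₀, map_natCast, map_sum]
    let e : (G.dat C).π.ker → (G.dat C).π.ker := fun b => ⟨G.kt (a.mapT (G.mem_T b.2)) (a.mapC b.1.2.2), rfl⟩
    have he : Function.Injective e := fun b c hbc => Subtype.ext (Subtype.ext (Prod.ext (b.2.trans c.2.symm)
      (δ.injective (congrArg (fun x : (G.dat C).π.ker => x.1.1.2) hbc))))
    refine congrArg _ (Fintype.sum_bijective e (Finite.injective_iff_bijective.1 he) _ _ fun b => ?_)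
    rw [AH.tw_smul, C3.Gd.res_apply, C3.Gd.res_apply, RingEquiv.refl_apply, C3.Gd.dat_t, C3.Gd.tt, map_mul, map_mul, map_mul,
      a.tw_eV, hf, AH.tw_dl, ← a.val hl (G.mem_T b.2)]
    rfl
  refine hM J W' M' cs' _ Y (G.dat C) (G.res C lam) σ₁ δ ⟨St.five cs' h', AH.tw_smul σ₁ δ, fun b _ => ?_,
    fun u hu => ⟨1, by rw [pow_one, pow_two]; exact hsq u hu⟩, fun f hf u => ?_, Or.inr ⟨_, G.whit_ne C _ hE hv hy, ?_,
    fun b hb => ?_, ?_⟩⟩ χ hχ h3 z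
  · obtain ⟨c, hc⟩ := ht b
    exact ⟨_, by rw [map_mul, hS, C3.Gd.dat_t, hc]; exact (G.dat C).t_ker_E _ b c.2⟩
  · rw [← map_mul]
    exact hf _ (hsq u u.2)
  · rw [← mul_assoc, ← mul_assoc, AH.Dat.E_mul_E]
  · obtain ⟨c, hc⟩ := G.whit_span C _ hpsi hv hy ((G.dat C).t b * dl y.1.2)
    exact ⟨c, by rw [← hc, ← mul_assoc, ← mul_assoc, AH.Dat.t_E, (G.dat C).mem_Nl.1 hb, mul_assoc _ ((G.dat C).t b)]⟩
  · obtain ⟨c, hc⟩ := G.whit_span C _ hpsi hv hy (dl (δ y.1.2))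
    exact ⟨c • 1, by rw [mul_smul_comm, mul_one, ← hc, map_mul, map_mul, hS, AH.tw_dl, tw_av σ₁ δ psi a.mapU hδ]⟩

/-- the principal series -/
theorem fix_ps {v : W} (hv : ∀ b, rep cs hT v b = -b) {lam : ↥T →* ℂˣ} (h1 : v ∈ Wst R lam)
    (hodd : ∃ m : ℕ, Odd m ∧ mB R lam χ = m) (z : Y) : χ (δ z) = χ z := by
  have hl : ∀ t, lam t ^ 2 = 1 := K.pow_of_gen hgen fun j => K.sq_of_neg (fun _ => pow_zero _) h1 (hv _)
  refine fix_of_mB R hM G.nd.top G.nd.comm (St.five cs h) (σ := σ₁) (lam := lam) ⟨a.mapU, fun t ht => a.mapT ht,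
    fun t ht => congrArg Units.val (a.val hl ht), fun u k hk _ => a.mapN u hk⟩ (fun u hu => ?_) (Or.inr a.psi) hχ hodd z
  rw [← pow_two]
  exact (K.mono (dvd_zero 2)).pow_mem_self two_pos hl hu

theorem fix1 (hodd : ∃ d : ℕ, Odd d ∧ lin χ (eU cs h X * av (P := (Φ.comp SL2.tor).range) 1) = d) (z : Y) :
    χ (δ z) = χ z := by
  obtain ⟨v, hv, hv'⟩ := G.sb.neg
  obtain ⟨y, hy⟩ := G.exists_y hv
  have hk : Rp cs R.nsys v (y.1.2 * Φ SL2.wel) := hy ▸ y.2.1.mul G.nd.wel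
  have hw : ∀ ν : (PS.dat R G.nd.top G.nd.comm).Wt, ∃ lam, ν = wt R G.nd.top G.nd.comm lam := fun ν =>
    ⟨ν.comp (kerT R G.nd.top G.nd.comm).symm.toMonoidHom, MonoidHom.ext fun t => by simp [wt]⟩
  obtain ⟨ν, -, h2, h3⟩ := exists_fix_odd (PS.dat R G.nd.top G.nd.comm) (Characters.Core.isIrr_isCharacter hχ)
    (a := ⟨_, mem_NN.2 ⟨v, hk⟩⟩) (by rw [map_mul, PS.dat_pi, piN_eq R (g := ⟨_, mem_NN.2 ⟨v, hk⟩⟩) hk, neg_sq hv])
    (fun ν => ∀ u, ν ((kerT R G.nd.top G.nd.comm).symm ⟨_, G.nd.tor u⟩) = 1) (fun ν hν u => by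
      rw [AH.Dat.act_apply, ← hν u⁻¹]
      refine congrArg ν (Subtype.ext (Subtype.ext ?_))
      show (y.1.2 * Φ SL2.wel)⁻¹ * Φ (SL2.tor u) * (y.1.2 * Φ SL2.wel) = Φ (SL2.tor u⁻¹)
      have h1 := congrArg Φ (SL2.wel_mul_tor u⁻¹)
      rw [inv_inv, map_mul, map_mul] at h1
      rw [mul_assoc, ← mul_assoc (Φ _), mem_CS.1 y.2.2, mul_assoc, ← h1]
      group)
    (z := av (P := (Φ.comp SL2.tor).range) 1) (fun ν hν => by
      obtain ⟨lam, rfl⟩ := hw ν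
      rw [E_wt]
      refine mul_av_eq _ ?_
      rintro ⟨_, u, rfl⟩
      exact (eB_mul_t R lam (G.nd.tor u)).trans (congrArg (fun c : ℂˣ => (c : ℂ) • _) (hν u))) (fun ν hν => by
      obtain ⟨lam, rfl⟩ := hw ν
      obtain ⟨u, hu⟩ := not_forall.1 hν
      rw [E_wt]
      have h1 : (((lam ⟨_, G.nd.tor u⟩ : ℂˣ) : ℂ) - 1) •
          (H684.OQ.eB R lam * av (P := (Φ.comp SL2.tor).range) 1) = 0 := by
        rw [sub_smul, one_smul, ← smul_mul_assoc, ← eB_mul_t R lam (G.nd.tor u), mul_assoc,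
          C3.dl_mul_av_one (P := (Φ.comp SL2.tor).range) (u := Φ (SL2.tor u)) ⟨u, rfl⟩, sub_self]
      exact (smul_eq_zero.1 h1).resolve_left fun h2 => hu (Units.val_eq_one.1 (sub_eq_zero.1 h2)))
    (by rw [PS.dat_t, Subgroup.coe_one, ta_one]; exact hodd)
  obtain ⟨lam, rfl⟩ := hw ν
  rw [E_wt, lin_eB] at h3
  exact fix_ps G hM K hgen a hχ hv' ⟨_, hk, (mem_Nl R G.nd.top G.nd.comm).1 h2⟩ h3 z

end gen

variable {m : ℕ} {W Y : Type} [Group W] [Finite W] [Group Y] [Finite Y]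
  {cs : CoxeterSystem (CoxeterMatrix.B (m + 1)) W} {p : ℕ} {T : Subgroup Y}
  {n : Fin (m + 1) → Y} {X : (Fin (m + 1) → ℤ) → Subgroup Y} {F : Type} [Field F] [Fintype F]
  {R : RGD cs (Nodes.TypeC.isCartan (m + 1)) p T n X} {Φ : S2 F →* Y} {gg : Fin (m + 1) → Y}

/-- **the characters of odd degree are fixed** -/
theorem fix_av (S : Sp R Φ gg) (hP : Par cs X) (h4 : Fintype.card F % 4 = 3) {δ : Y ≃* Y} (a : Av R Φ δ) {χ : Y → ℂ}
    (hχ : IsIrrCharacter Y χ) (hodd : Odd (charDegree χ)) (z : Y) : χ (δ z) = χ z := by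
  have hM := AH.main Hk.ho
  have := PW.finB m
  have G := S.gd
  have hc := Core.isIrr_isCharacter hχ
  obtain ⟨h1, h2⟩ := hP χ hc
  rw [Blocks.Basic.irr_one_eq_charDegree hχ] at h1 h2
  rcases Nat.even_or_odd (m + 1) with h3 | h3
  · have := Fintype.ofFinite ↥(UU cs (Nodes.TypeC.isCartan (m + 1)) X)
    obtain ⟨lam, h5, h6⟩ := exists_lam_of_sum R S.nd.top S.nd.comm hχ hodd (h1 h3)
      (by rw [finsum_eq_sum_of_fintype]; ring)
    obtain ⟨v, hv, hv'⟩ := G.sb.neg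
    exact fix_ps G hM S.cor S.gen a hχ hv' (mem_of_center h6 (neg_comm hv) (neg_sq hv)) h5 z
  · have := Fintype.ofFinite ↥(VV cs (Nodes.TypeC.isCartan (m + 1)) X (Fin.last m))
    obtain ⟨d, hd⟩ := lin_idem hc (eV_mul_eV (cs := cs) (h := Nodes.TypeC.isCartan (m + 1)) (X := X) (l := Fin.last m))
    have h5 : Odd (Nat.card ↥(VV cs (Nodes.TypeC.isCartan (m + 1)) X (Fin.last m)) * d) := by
      refine odd_of_ev hodd (h2 h3) ?_
      rw [Nat.cast_mul, ← hd, ← one_mul (eV _ _ _ _), ← mul_one (1 * _), eV, lin_av, smul_eq_mul,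
        mul_inv_cancel_left₀ (card_ne _), finsum_eq_sum_of_fintype]
      exact Finset.sum_congr rfl fun u _ => by simp [lin_dl]
    rcases ODD.C3.qs _ W Y _ cs _ _ p T n X R F _ Φ S.nd h4 χ hc ⟨d, (Nat.odd_mul.1 h5).2, hd⟩ with h6 |
      ⟨ψ, hψ, h6, h7⟩
    · exact fix1 G hM S.cor S.gen a hχ h6 z
    · obtain ⟨psi, hpsi, h8⟩ := a.psi
      obtain ⟨d₀, h9, h10⟩ := a.sl2
      have key : ∀ psi : ↥(UU cs (Nodes.TypeC.isCartan (m + 1)) X) →* ℂˣ, Nondeg psi →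
          (∀ u hu, ((psi ⟨δ u, a.mapU u hu⟩ : ℂˣ) : ℂ) = σ₁ (psi ⟨u, hu⟩ : ℂˣ)) →
          ∀ φ, φ = (psiL (Fin.last m) psi).comp S.nd.xl → Cusp (fc ψ φ) φ →
          (∃ d : ℕ, Odd d ∧ lin χ (eV cs (Nodes.TypeC.isCartan (m + 1)) X (Fin.last m) * mp Φ (fc ψ φ)) = d) →
          χ (δ z) = χ z := by
        rintro psi hpsi h8 _ rfl C h11
        refine fix2 G hM S.cor S.gen a hχ h4 hpsi h8 C ?_ h11 z
        rw [fc, map_mul, map_mul, ODD.C3.tw_mp σ₁ Φ h9, ODD.C3.Q.tw_cen σ₁ d₀ (h10 ψ ⟨hψ, h6⟩), S.nd.mp_eph,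
          tw_av σ₁ δ _ (a.mapX _) fun u hu => h8 u (X_le_U _ hu)]
      obtain ⟨φ, h11, C, h12⟩ := h7 ((psiL (Fin.last m) psi).comp S.nd.xl) fun e => by
        obtain ⟨x, hx, hne⟩ := hpsi (Fin.last m)
        obtain ⟨r, hr⟩ := S.nd.xl_bij.2 ⟨x, hx⟩
        have h11 := DFunLike.congr_fun e r
        rw [MonoidHom.comp_apply, hr] at h11
        exact hne h11
      rcases h11 with h11 | h11
      · exact key psi hpsi h8 φ h11 C h12
      · refine key psi⁻¹ (fun j => ?_) (fun u hu => ?_) φ h11 C h12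
        · obtain ⟨x, hx, hne⟩ := hpsi j
          exact ⟨x, hx, fun e => hne (inv_eq_one.1 e)⟩
        · rw [MonoidHom.inv_apply, MonoidHom.inv_apply, Units.val_inv_eq_inv_val, Units.val_inv_eq_inv_val, h8,
            map_inv₀]

end Cfsg.Agent.MK.P
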