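import Cfsg.Agent.MK.P.GB1

/-!
# MK-P: the counts for the monomial groups (helper36)

* `N1 F` : the monomial subgroup of `SL₂(F)`; `Q4 z` : four linear characters, two of them trivial on `z`;
* `kw_even`, `kw_odd`, `exists_even`, `exists_odd` : the counts for wreath products.
-/

set_option autoImplicit false
set_option linter.unusedSectionVars false

namespace Cfsg.Agent.MK.P

open Cfsg Subgroup Equiv Cfsg.Agent.MK.T Cfsg.Agent.ODD Cfsg.Agent.ODD.PS.C3 Cfsg.Agent.H670.SL2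

/-- four characters of odd degree, two of them trivial on `z` -/
structure Q4 {A : Type} [Group A] (z : A) : Prop where
  cen : z ∈ center A
  one : ∀ χ, OI A χ → χ 1 = 1 ∧ χ z * χ z = 1
  four : k0 A = 4
  two : Nat.card {χ : {χ : A → ℂ // OI A χ} // χ.1 z = 1} = 2

section dic

variable {A U : Type} [Group A] [Finite A] [CommGroup U]

theorem kk_index (M : Subgroup A) [M.Normal] {j : ℕ} (h : M.index = 2 ^ j) (hc : IsMulCommutative (A ⧸ M)) :
    kk ⊤ M 1 = 2 ^ j := by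
  rw [← QuotientGroup.ker_mk' M, ← k0_quot _ (QuotientGroup.mk'_surjective M), k0_two (IsPGroup.of_card h), ab,
    commutator_eq_bot, index_bot]
  exact h

theorem q4_of (τ : U →* A) (hτ : Function.Injective τ) {w : A} {ν : U} (hw : w ∉ τ.range)
    (h1 : ∀ a, a * w ∈ τ.range ∨ a ∈ τ.range) (h2 : ∀ u, w * τ u = τ u⁻¹ * w) (hν : ν * ν = 1) (h3 : ¬ IsSquare ν)
    (h4 : ∀ u, IsSquare (u * ν) ∨ IsSquare u) : Q4 (τ ν) := by
  have := two_prime
  have sq : ∀ u : U, u ∈ (powMonoidHom 2 : U →* U).range ↔ IsSquare u := fun u =>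
    ⟨fun ⟨v, hv⟩ => ⟨v, by rw [← hv, powMonoidHom_apply, pow_two]⟩, fun ⟨v, hv⟩ => ⟨v, by rw [hv, powMonoidHom_apply, pow_two]⟩⟩
  have iL : τ.range.index = 2 := index_eq_two_iff_exists_notMem_and.2 ⟨w, hw, h1⟩
  have iK : ((powMonoidHom 2 : U →* U).range.map τ).index = 2 ^ 2 := by
    rw [index_map_of_injective _ hτ, iL, index_eq_two_iff_exists_notMem_and.2
      ⟨ν, fun h => h3 ((sq ν).1 h), fun u => by rw [sq, sq]; exact h4 u⟩]
    rfl
  have cj : ∀ a u, a * τ u * a⁻¹ = τ u ∨ a * τ u * a⁻¹ = τ u⁻¹ := fun a u => by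
    rcases h1 a with ⟨v, hv⟩ | ⟨v, rfl⟩
    · right
      rw [eq_mul_inv_of_mul_eq hv.symm, mul_assoc (τ v), inv_mul_eq_of_eq_mul (b := τ u) (c := τ u⁻¹ * w⁻¹)
        (by rw [← mul_assoc, h2, inv_inv, mul_inv_cancel_right]), mul_inv_rev, inv_inv, mul_assoc, mul_assoc,
        inv_mul_cancel_left, ← map_inv τ v, ← map_mul, ← map_mul, mul_inv_cancel_comm_assoc]
    · left
      rw [← map_inv, ← map_mul, ← map_mul, mul_inv_cancel_comm]
  have nL : τ.range.Normal := normal_of_index_eq_two iL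
  have nK : ((powMonoidHom 2 : U →* U).range.map τ).Normal := ⟨by
    rintro _ ⟨u, hu, rfl⟩ a
    rcases cj a u with h | h <;> rw [h]
    exacts [⟨u, hu, rfl⟩, ⟨u⁻¹, inv_mem hu, rfl⟩]⟩
  have lin : ∀ χ, OI A χ → ∃ f : A →* ℂˣ, χ = fun g => (f g : ℂ) := fun χ hχ => by
    have h5 := H142.McKayCount.charDegree_dvd_index τ.range (by
      rintro _ ⟨u, rfl⟩ _ ⟨v, rfl⟩
      rw [← map_mul, mul_comm, map_mul]) ⟨χ, hχ.1⟩
    rw [iL] at h5
    refine Characters.Linear.exists_hom_of_isIrrCharacter hχ.1 ?_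
    rcases (Nat.dvd_prime Nat.prime_two).1 h5 with h6 | h6
    · exact (Red.apply_one (Characters.Core.isIrr_isCharacter hχ.1)).trans (by rw [show charDegree χ = 1 from h6, Nat.cast_one])
    · exact absurd hχ.2 (by rw [show charDegree χ = 2 from h6]; decide)
  have tr : ∀ (f : A →* ℂˣ) u, IsSquare u → f (τ u) = 1 := by
    rintro f _ ⟨u, rfl⟩
    have h5 := congrArg f (h2 u)
    rw [map_mul, map_mul, mul_comm, mul_left_inj, map_inv, map_inv, eq_inv_iff_mul_eq_one] at h5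
    rw [map_mul, map_mul, h5]
  refine ⟨mem_center_iff.2 fun a => ?_, fun χ hχ => ?_, ?_, ?_⟩
  · refine mul_inv_eq_iff_eq_mul.1 ((cj a ν).elim id fun h => ?_)
    rwa [inv_eq_of_mul_eq_one_right hν] at h
  · obtain ⟨f, rfl⟩ := lin χ hχ
    exact ⟨by simp, by rw [← Units.val_mul, ← map_mul, ← map_mul, hν, map_one, map_one, Units.val_one]⟩
  · rw [show 4 = 2 ^ 2 from rfl, ← kk_index _ iK (IsPGroup.isMulCommutative_of_card_eq_prime_sq iK), kk_top, k0_eq_of]
    rintro χ hχ _ ⟨u, hu, rfl⟩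
    obtain ⟨f, rfl⟩ := lin χ hχ
    simp [tr f u ((sq u).1 hu)]
  · have := isCyclic_of_prime_card (α := A ⧸ τ.range) (p := 2) iL
    rw [← pow_one 2, ← kk_index τ.range iL inferInstance, kk_top]
    refine Nat.card_congr ((subtypeSubtypeEquivSubtypeInter _ fun χ : A → ℂ => χ (τ ν) = 1).trans
      (subtypeEquivRight fun χ => and_congr_right fun hχ => ?_))
    obtain ⟨f, rfl⟩ := lin χ hχ
    simp only [map_one, Units.val_one, Pi.one_apply, mul_one, Units.val_eq_one]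
    refine ⟨?_, fun h => h _ ⟨ν, rfl⟩⟩
    rintro h _ ⟨u, rfl⟩
    refine (h4 u).elim (fun h5 => ?_) (tr f u)
    have h6 := tr f _ h5
    rwa [map_mul, map_mul, h, mul_one] at h6

end dic

section sl2

variable {F : Type} [Field F]

theorem wel_mul_wel : (wel : S2 F) * wel = ng F := by
  refine ext4 ?_ ?_ ?_ ?_ <;> simp [mul00, mul01, mul10, mul11, wel00, wel01, wel10, wel11, tor00, tor01, tor10, tor11]

/-- the monomial subgroup -/
def N1 (F : Type) [Field F] : Subgroup (S2 F) where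
  carrier := {s | ∃ u, s = tor u ∨ s = tor u * wel}
  one_mem' := ⟨1, Or.inl (map_one _).symm⟩
  mul_mem' := by
    rintro _ _ ⟨u, rfl | rfl⟩ ⟨v, rfl | rfl⟩
    · exact ⟨u * v, Or.inl (map_mul _ _ _).symm⟩
    · exact ⟨u * v, Or.inr (by rw [map_mul, mul_assoc])⟩
    · exact ⟨u * v⁻¹, Or.inr (by rw [mul_assoc, wel_mul_tor, map_mul, mul_assoc])⟩
    · exact ⟨u * (v⁻¹ * -1), Or.inl (by
        rw [mul_assoc, ← mul_assoc wel, wel_mul_tor, mul_assoc, wel_mul_wel, map_mul, map_mul])⟩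
  inv_mem' := by
    rintro _ ⟨u, rfl | rfl⟩
    · exact ⟨u⁻¹, Or.inl (map_inv _ _).symm⟩
    · refine ⟨-u, Or.inr (inv_eq_of_mul_eq_one_right ?_)⟩
      rw [mul_assoc, ← mul_assoc wel, wel_mul_tor, mul_assoc, wel_mul_wel, ← map_mul, ← map_mul]
      simp

theorem tor_mem (u : Fˣ) : tor u ∈ N1 F := ⟨u, Or.inl rfl⟩

theorem wel_mem : wel ∈ N1 F := ⟨1, Or.inr (by rw [map_one, one_mul])⟩

theorem x_not_mem : x 1 ∉ N1 F := by
  rintro ⟨u, h | h⟩
  · exact one_ne_zero (congrArg e01 h)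
  · have h1 := congrArg e00 h
    rw [mul00, x00, wel00, tor01, mul_zero, zero_mul, add_zero] at h1
    exact one_ne_zero h1

/-- `-1` -/
def z1 (F : Type) [Field F] : N1 F := ⟨ng F, tor_mem _⟩

theorem sq_cases [Fintype F] {a b : Fˣ} (ha : ¬ IsSquare a) (hb : ¬ IsSquare b) :
    IsSquare (a * b) := by
  classical
  have h : ∀ u : Fˣ, IsSquare u ↔ IsSquare (u : F) := fun u => ⟨fun h => h.map (Units.coeHom F), fun ⟨r, hr⟩ =>
    ⟨Units.mk0 r fun e => u.ne_zero (by rw [hr, e, mul_zero]), Units.ext hr⟩⟩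
  rw [h] at ha hb ⊢
  rw [← quadraticChar_one_iff_isSquare (Units.ne_zero _), Units.val_mul, map_mul,
    quadraticChar_neg_one_iff_not_isSquare.2 ha, quadraticChar_neg_one_iff_not_isSquare.2 hb]
  rfl

theorem q4 [Fintype F] (h4 : Fintype.card F % 4 = 3) : Q4 (z1 F) := by
  have h1 : ¬ IsSquare (-1 : Fˣ) := fun h => FiniteField.isSquare_neg_one_iff.1 (by simpa using h.map (Units.coeHom F)) h4
  refine q4_of (tor.codRestrict (N1 F) tor_mem) (fun a b h => tor_inj (congrArg Subtype.val h)) (w := ⟨wel, wel_mem⟩)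
    (ν := -1) (fun ⟨u, hu⟩ => ?_) ?_ (fun u => Subtype.ext (wel_mul_tor u)) (by simp) h1 fun u => ?_
  · exact zero_ne_one (congrArg (fun s : N1 F => e01 s.1) hu)
  · rintro ⟨_, u, rfl | rfl⟩
    · exact Or.inr ⟨u, rfl⟩
    · exact Or.inl ⟨u * -1, Subtype.ext (by
        show tor _ = tor u * wel * wel
        rw [mul_assoc, wel_mul_wel, map_mul])⟩
  · by_cases h : IsSquare u
    exacts [Or.inr h, Or.inl (sq_cases h h1)]

end sl2

section fam

variable {ι S S' : Type}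

theorem iv_congr (T : Subgroup (Perm ι)) (e : S ≃ S') :
    Nat.card {μ : ι → S // Iv T μ} = Nat.card {μ : ι → S' // Iv T μ} :=
  Nat.card_congr (subtypeEquiv (arrowCongr (Equiv.refl ι) e) fun _ =>
    forall_congr' fun _ => forall_congr' fun _ => forall_congr' fun _ => e.apply_eq_iff_eq.symm)

theorem iv_snoc {m : ℕ} (T : Subgroup (Perm (Fin m))) (p : S → Prop) :
    Nat.card {μ : Fin (m + 1) → S // Iv (T.map (eP m)) μ ∧ p (μ (Fin.last m))} =
      Nat.card {μ : Fin m → S // Iv T μ} * Nat.card {s // p s} := by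
  rw [← Nat.card_prod]
  refine Nat.card_congr ⟨fun μ => (⟨fun i => μ.1 i.castSucc, fun t ht i => ?_⟩, ⟨_, μ.2.2⟩),
    fun y => ⟨Fin.lastCases y.2.1 y.1.1, ?_, ?_⟩, fun μ => Subtype.ext (funext fun i => ?_), fun y => ?_⟩
  · exact (congrArg μ.1 (eP_cast t i)).symm.trans (μ.2.1 _ ⟨t, ht, rfl⟩ _)
  · rintro _ ⟨t, ht, rfl⟩ i
    induction i using Fin.lastCases with
    | last => rw [eP_last]
    | cast i => simp only [eP_cast, Fin.lastCases_castSucc, y.1.2 t ht i]
  · simpa only [Fin.lastCases_last] using y.2.2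
  · induction i using Fin.lastCases <;> simp
  · exact Prod.ext (Subtype.ext (funext fun i => by simp)) (Subtype.ext (by simp))

end fam

/-- `T` contains an involution without fixed points -/
def Fr {ι : Type} (T : Subgroup (Perm ι)) : Prop := ∃ τ ∈ T, (∀ i, τ (τ i) = i) ∧ ∀ i, τ i ≠ i

section cnt

variable {A ι : Type} [Group A] [Finite A] [Fintype ι] {z : A} (q : Q4 z) {T : Subgroup (Perm ι)}

include q

theorem Q4.equiv : Nonempty ({χ : A → ℂ // OI A χ} ≃ Fin 4) :=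
  haveI := finite_oi' (G := A)
  ⟨Finite.equivFinOfCardEq q.four⟩

theorem Q4.prod (hT : Fr T) {θ : ι → {χ : A → ℂ // OI A χ}} (h : Iv T θ) : ∏ i, (θ i).1 z = 1 := by
  obtain ⟨τ, hτ, h1, h2⟩ := hT
  exact Finset.prod_involution (fun i _ => τ i) (fun i _ => by rw [h τ hτ, (q.one _ (θ i).2).2]) (fun i _ _ => h2 i)
    (fun _ _ => Finset.mem_univ _) fun i _ => h1 i

theorem Q4.prod_one (θ : ι → {χ : A → ℂ // OI A χ}) : ∏ i, (θ i).1 1 = 1 :=
  Finset.prod_eq_one fun i _ => (q.one _ (θ i).2).1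

theorem kw_even (h2 : W2) (hT : IsPGroup 2 T) (hf : Fr T) : kw z T = c4 T := by
  obtain ⟨e⟩ := q.equiv
  rw [h2 A ι z T hT, c4, ← iv_congr T e]
  exact congrArg (· * ab T) (Nat.card_congr (subtypeEquivRight fun θ =>
    and_iff_left_of_imp fun h => by rw [q.prod hf h, q.prod_one]))

theorem kw_odd (h2 : W2) {m : ℕ} {T : Subgroup (Perm (Fin m))} (hT : IsPGroup 2 T) (hf : Fr T) :
    kw z (T.map (eP m)) + 2 * kw z T = c4 (T.map (eP m)) := by
  obtain ⟨e⟩ := q.equiv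
  have h3 := iv_snoc T fun _ : Fin 4 => True
  have h4 := iv_snoc T fun χ : {χ : A → ℂ // OI A χ} => χ.1 z = 1
  simp only [and_true] at h3
  rw [Nat.card_congr (subtypeUnivEquiv fun _ => trivial), Nat.card_fin] at h3
  rw [kw_even q h2 hT hf, h2 A _ z _ (hT.map _), c4, c4, h3, ← ab_congr (equivMapOfInjective T _ (eP_injective m)),
    Nat.card_congr (subtypeEquivRight (q := fun θ => Iv (T.map (eP m)) θ ∧ (θ (Fin.last m)).1 z = 1) fun θ =>
      and_congr_right fun h => ?_), h4, q.two, iv_congr T e]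
  · ring
  · rw [q.prod_one, Fin.prod_univ_castSucc, q.prod hf (θ := fun i => θ i.castSucc) fun t ht i =>
      (congrArg θ (eP_cast t i)).symm.trans (h _ ⟨t, ht, rfl⟩ _), one_mul]

end cnt

theorem rev_ne {m : ℕ} (hm : Even m) (i : Fin m) : i.rev ≠ i := fun h => by
  have h1 := congrArg Fin.val h
  have := i.2
  obtain ⟨r, hr⟩ := hm
  rw [Fin.val_rev] at h1
  omega

theorem exists_even {m : ℕ} (hm : Even m) : ∃ T : Sylow 2 (Perm (Fin m)), Fr (T : Subgroup (Perm (Fin m))) := by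
  have h1 : (Fin.revPerm : Perm (Fin m)) * Fin.revPerm = 1 := Equiv.ext Fin.rev_rev
  obtain ⟨T, hT⟩ := IsPGroup.exists_le_sylow (p := 2) (P := zpowers (Fin.revPerm : Perm (Fin m))) fun a => ⟨1, Subtype.ext (by
    rcases (mem_zp2 h1).1 a.2 with h | h <;> simp [h, pow_two, h1])⟩
  exact ⟨T, _, hT (mem_zpowers _), Fin.rev_rev, rev_ne hm⟩

theorem exists_odd {m : ℕ} (hm : Even m) (T : Sylow 2 (Perm (Fin m))) :
    ∃ T' : Sylow 2 (Perm (Fin (m + 1))), (T' : Subgroup _) = (T : Subgroup _).map (eP m) := by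
  have := two_prime
  refine exists_sylow (T.isPGroup'.map _) ?_
  have h1 := (eP m).range.card_mul_index
  rw [← Nat.card_congr (MonoidHom.ofInjective (eP_injective m)).toEquiv, Nat.card_perm, Nat.card_perm, Nat.card_fin,
    Nat.card_fin, Nat.factorial_succ, mul_comm, Nat.mul_left_inj (Nat.factorial_ne_zero m)] at h1
  rw [index_map_of_injective _ (eP_injective m), h1]
  exact (Nat.not_even_iff_odd.1 fun h => T.not_dvd_index (even_iff_two_dvd.1 h)).mul hm.add_one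

end Cfsg.Agent.MK.P
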