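import Cfsg.Agent.MK.P.GB2
import Cfsg.Agent.MK.P.GC1
import Cfsg.Agent.MK.P.GD1

/-!
# MK-P: the monomial group of `PSp_{2k}(F)` (helper36)

* `sg1`, `dg` : elements of the base group; `jN k` : the monomial group; `NN_eq`, `N2_eq`, `sw`;
* `av_fld` : the field automorphisms fix the data.
-/

set_option autoImplicit false
set_option linter.unusedSectionVars false

namespace Cfsg.Agent.MK.P

open Cfsg Subgroup Equiv Cfsg.Agent.MK.T Cfsg.Agent.ODD Cfsg.Agent.ODD.PS.C3 Cfsg.Agent.ODD.C3 Cfsg.Agent.H670.SL2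
open CoxeterSystem Cfsg.Agent.ChevalleyStructure.CoxeterGeom Cfsg.Agent.Tits.Roots Cfsg.Agent.Tits.Core
  Cfsg.Agent.Nodes.Reps Cfsg.Agent.Nodes.BNOf
open Cfsg.Agent.ClassicalGeometry.SympBasic Cfsg.Agent.ClassicalGeometry.SympGamma Cfsg.Agent.TitsThree
  Cfsg.Agent.TitsThree.WittWeyl Cfsg.Agent.TitsThree.SpIdent Cfsg.Agent.Nodes Cfsg.Agent.Nodes.WittRoot
  Cfsg.Agent.Nodes.WittRGD
open SemidirectProduct (inl inr)

section gen

variable {I W Y : Type} [Fintype I] [DecidableEq I] [Group W] [Finite W] [Group Y] [Fintype Y]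
  {M : CoxeterMatrix I} {cs : CoxeterSystem M W} {A : I → I → ℤ} {h : IsCartan M A} {p : ℕ} {T : Subgroup Y}
  {n : I → Y} {X : (I → ℤ) → Subgroup Y} {R : RGD cs h p T n X} {F : Type} [Field F] [Fintype F] {l : I}
  {Φ : S2 F →* Y} {AT : I → I → ℤ} {hT : IsCartan M AT} {J W' : Type} [Fintype J] [DecidableEq J] [Group W']
  {M' : CoxeterMatrix J} {cs' : CoxeterSystem M' W'} {A' : J → J → ℤ} {h' : IsCartan M' A'} {β : J → I → ℤ}
  {w : J → W} {i : J → I} {g : J → Y}

theorem mem_N2 (G : PS.C3.Gd R hT l Φ cs' h' β w i g) {y : Y} : y ∈ N2 G ↔ y ∈ NN cs R.nsys ∧ y ∈ CS Φ := by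
  refine ⟨fun ⟨a, ha⟩ => ha ▸ ⟨⟨_, a.2.1⟩, a.2.2⟩, fun ⟨⟨v, hv⟩, hc⟩ => ?_⟩
  have h1 : ∀ u ∈ X (sr l), y * u * y⁻¹ = u := fun u hu => by
    obtain ⟨s, rfl⟩ := (G.nd.mem u).1 hu
    rw [← PS.C3.mem_CS.1 hc, mul_inv_cancel_right]
  have h4 : X (rep cs h v (sr l)) ≤ X (sr l) := fun u hu => by
    have h2 := R.conj_mem' hv ((isRoot_sr cs h l).act v) hu
    rw [rep_inv_apply] at h2
    have h3 := h1 _ h2
    rwa [← h3, show y * (y⁻¹ * u * y) * y⁻¹ = u by group] at h2
  obtain ⟨u, rfl⟩ := G.sb.stab v (OppDec.X_injective R ((isRoot_sr cs h l).act v) (isRoot_sr cs h l)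
    (le_antisymm h4 fun u hu => h1 u hu ▸ R.conj_mem hv (isRoot_sr cs h l) hu))
  exact ⟨⟨(u, y), hv, hc⟩, rfl⟩

end gen

section wr

variable {A ι : Type} [Group A] [DecidableEq ι]

/-- the element `s` at the place `l` -/
def sg1 (l : ι) : A →* Wr A ι := inl.comp (MonoidHom.mulSingle (fun _ => A) l)

theorem sg1_self (l : ι) (s : A) : (sg1 l s).left l = s := Pi.mulSingle_eq_same _ _

theorem sg1_ne {l i : ι} (h : i ≠ l) (s : A) : (sg1 l s).left i = 1 := Pi.mulSingle_eq_of_ne h _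

theorem sg1_right (l : ι) (s : A) : (sg1 l s).right = 1 := rfl

theorem mul_sg1 (w : Wr A ι) (l : ι) (s : A) :
    w * sg1 l s = sg1 (w.right l) (w.left (w.right l) * s * (w.left (w.right l))⁻¹) * w := by
  refine SemidirectProduct.ext (funext fun i => ?_) (by simp [sg1_right])
  rw [mul_left, mul_left, sg1_right, inv_one, Perm.one_apply]
  by_cases h : i = w.right l
  · rw [h, Perm.inv_def, symm_apply_apply, sg1_self, sg1_self, inv_mul_cancel_right]
  · rw [sg1_ne h, sg1_ne fun e => h (by rw [← e, Perm.inv_def, apply_symm_apply]), one_mul, mul_one]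

end wr

variable {F : Type} [Field F] {k : ℕ}

local notation "TT" => WittModel.T (KInstSp.model k F)

theorem jI_sg1 (l : Fin k) (s : S2 F) : jI k (sg1 l s) = P0 l s := by
  refine Subtype.ext (ext_b fun ⟨i, b⟩ => ?_)
  by_cases h : i = l
  · subst h
    cases b
    · rw [P0_f, jI_apply, frame_b_false, jv_f, sg1_right, Perm.one_apply, sg1_self, frame_b_true]
    · rw [P0_e, jI_apply, frame_b_true, jv_e, sg1_right, Perm.one_apply, sg1_self, frame_b_false]
  · rw [P0_ne l s h, jI_apply]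
    cases b
    · rw [frame_b_false, jv_f, sg1_right, Perm.one_apply, sg1_ne h]
      exact (congrArg₂ _ (zero_smul _ _) (one_smul _ _)).trans (zero_add _)
    · rw [frame_b_true, jv_e, sg1_right, Perm.one_apply, sg1_ne h]
      exact (congrArg₂ _ (one_smul _ _) (zero_smul _ _)).trans (add_zero _)

theorem Phi_eq (l : Fin k) (s : S2 F) : Phi l s = jP k (sg1 l s) := congrArg toPSp (jI_sg1 l s).symm

/-- the diagonal elements -/
def dg (a : Fin k → Fˣ) : Wr (S2 F) (Fin k) := inl fun i => tor (a i)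

theorem ev_dg (a : Fin k → Fˣ) : PW.Ev (frame k F) (jI k (dg a)).1 fun z => if z.2 then a z.1 else (a z.1)⁻¹ := by
  rintro ⟨i, b⟩
  rw [jI_apply]
  cases b
  · exact (jv_f _ i).trans ((congrArg (· + _) (zero_smul _ _)).trans (zero_add _))
  · exact (jv_e _ i).trans ((congrArg (_ + ·) (zero_smul _ _)).trans (add_zero _))

theorem mem_TT {t : PSp k F} : t ∈ TT ↔ ∃ a, jP k (dg a) = t := by
  refine ⟨?_, ?_⟩
  · rintro ⟨t, ht, rfl⟩
    obtain ⟨l, hl⟩ := PW.exists_ev (show Mono (frame k F) t.1 id from ht.2)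
    refine ⟨fun i => l (i, true), congrArg toPSp (Subtype.ext (ev_ext (ev_dg _) hl fun ⟨i, b⟩ => ?_))⟩
    cases b
    · exact (hl.opp (fun _ => rfl) t.2 (i, true)).symm
    · rfl
  · rintro ⟨a, rfl⟩
    exact mem_map_of_mem _ (mem_subgroupOf.2 ⟨(jI k (dg a)).2, (ev_dg a).mono⟩)

theorem mono_inr (π : Perm (Fin k)) : Mono (frame k F) (jI k (inr π)).1 fun z => (π z.1, z.2) := by
  rintro ⟨i, b⟩
  refine ⟨1, one_ne_zero, ?_⟩
  rw [jI_apply]
  cases b
  · exact (jv_f _ i).trans ((congrArg (· + _) (zero_smul _ _)).trans (zero_add _))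
  · exact (jv_e _ i).trans ((congrArg (_ + ·) (zero_smul _ _)).trans (add_zero _))

/-- the monomial group -/
noncomputable def jN (k : ℕ) (F : Type) [Field F] : Wr (N1 F) (Fin k) →* PSp k F :=
  (jP k).comp (mapW (Fin k) (N1 F).subtype)

theorem mem_jN {y : PSp k F} : y ∈ (jN k F).range ↔ ∃ w : Wr (S2 F) (Fin k), (∀ i, w.left i ∈ N1 F) ∧ jP k w = y :=
  ⟨fun ⟨w, h⟩ => ⟨_, fun i => (w.left i).2, h⟩, fun ⟨w, h1, h⟩ => ⟨⟨fun i => ⟨_, h1 i⟩, w.right⟩, h⟩⟩

theorem jP_eq {v w : Wr (S2 F) (Fin k)} : jP k v = jP k w ↔ v = w ∨ v = w * dz (Fin k) (ng F) := by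
  rw [← inv_mul_eq_one, ← map_inv, ← map_mul, jP_eq_one, ← inv_mem_iff, mul_inv_rev, inv_inv,
    mem_zp2 (SemidirectProduct.ext (funext fun _ => ng_mul_ng) (mul_one _)), inv_mul_eq_one, inv_mul_eq_iff_eq_mul, eq_comm]

theorem jP_dz (w : Wr (S2 F) (Fin k)) : jP k (w * dz (Fin k) (ng F)) = jP k w := jP_eq.2 (Or.inr rfl)

theorem mul_dz (w : Wr (S2 F) (Fin k)) (i : Fin k) : (w * dz (Fin k) (ng F)).left i = w.left i * ng F := rfl

theorem jN_eq_one {w : Wr (N1 F) (Fin k)} : jN k F w = 1 ↔ w ∈ zpowers (dz (Fin k) (z1 F)) := by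
  rw [jN, MonoidHom.comp_apply, jP_eq_one, ← mem_map_iff_mem (mapW_injective (N1 F).subtype_injective),
    MonoidHom.map_zpowers]
  rfl

theorem jN_ne (l : Fin k) : (jN k F).range ≠ ⊤ := fun h => by
  obtain ⟨w, h1, h2⟩ := mem_jN.1 (h ▸ mem_top (jP k (sg1 l (x 1))))
  have h3 := h1 l
  rcases jP_eq.1 h2 with rfl | rfl
  · exact x_not_mem (sg1_self l (x (1 : F)) ▸ h3)
  · rw [mul_dz, sg1_self, mul_mem_cancel_right (tor_mem _)] at h3
    exact x_not_mem h3

theorem ng_ne (h2 : (2 : F) ≠ 0) : ng F ≠ 1 := fun h => h2 (by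
  have h1 : ((-1 : Fˣ) : F) = 1 := congrArg e00 h
  rw [Units.val_neg, Units.val_one] at h1
  linear_combination -h1)

theorem Phi_injective (h2 : (2 : F) ≠ 0) {l i : Fin k} (h : i ≠ l) : Function.Injective (Phi (F := F) l) :=
  (injective_iff_map_eq_one _).2 fun s hs => by
    rcases jP_eq.1 ((Phi_eq l s).symm.trans (hs.trans (map_one _).symm)) with e | e
    · rw [← sg1_self l s, e]
      rfl
    · have h1 := congrFun (congrArg SemidirectProduct.left e) i
      rw [sg1_ne h, one_mul] at h1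
      exact absurd h1.symm (ng_ne h2)

section rgd

variable [Fintype F] (p : ℕ) [Fact p.Prime] [CharP F p] {W : Type} [Group W] [Finite W]

theorem rp_swap (cs : CoxeterSystem (CoxeterMatrix.B k) W) {i : Fin k} (hi : (i : ℕ) + 1 < k) :
    Rp cs (rgdS k F p cs).nsys (cs.simple i) (jP k (inr (swap i ⟨i + 1, hi⟩))) := by
  have h1 := tor_of_mono WittU.amb_Sp (jI k (inr (swap i ⟨i + 1, hi⟩))).2 (nn_mem WittU.amb_Sp (adm (1 : F)) i)
    ((mono_inr _).congr fun ⟨j, s⟩ => by
      by_cases h2 : j = i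
      · rw [h2, TypeC.sg_up hi, swap_apply_left]
      by_cases h3 : j = ⟨i + 1, hi⟩
      · rw [h3, TypeC.sg_down hi, swap_apply_right]
      · rw [TypeC.sg_of_ne h2 fun h => h3 (Fin.ext h), swap_apply_of_ne_of_ne h2 h3])
    (mono_nn (p0 := adm 1) one_ne_zero i)
  have h2 := (rp_of_mem (cs := cs) (hN := (rgdS k F p cs).nsys) (PW.mem_T (φ := toPSp) h1)).mul
    (rp_simple cs (rgdS k F p cs).nsys i)
  rw [one_mul] at h2
  convert h2 using 1
  rw [nS, jP_apply]
  erw [← map_mul]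
  exact congrArg toPSp (Subtype.ext (inv_mul_cancel_right _ _).symm)

theorem rp_ex (cs : CoxeterSystem (CoxeterMatrix.B k) W) (i : Fin k) : ∃ w : Wr (S2 F) (Fin k),
    (∀ j, w.left j = 1 ∨ w.left j = wel) ∧ Rp cs (rgdS k F p cs).nsys (cs.simple i) (jP k w) := by
  by_cases hi : (i : ℕ) + 1 < k
  · exact ⟨_, fun _ => Or.inl rfl, rp_swap p cs hi⟩
  · refine ⟨sg1 i wel, fun j => ?_, Phi_eq i (wel : S2 F) ▸ rp_wel p cs hi⟩
    by_cases h : j = i
    exacts [Or.inr (h ▸ sg1_self _ _), Or.inl (sg1_ne h _)]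

variable {m : ℕ} (cs : CoxeterSystem (CoxeterMatrix.B (m + 1)) W)

theorem NN_eq : NN cs (rgdS (m + 1) F p cs).nsys = (jN (m + 1) F).range := by
  have hT : ∀ t ∈ WittModel.T (KInstSp.model (m + 1) F), t ∈ (jN (m + 1) F).range := fun t ht => by
    obtain ⟨a, rfl⟩ := mem_TT.1 ht
    exact mem_jN.2 ⟨_, fun i => tor_mem _, rfl⟩
  refine le_antisymm ?_ ?_
  · rintro y ⟨v, hv⟩
    induction v using cs.simple_induction_right generalizing y with
    | one => exact hT _ hv.mem_of_one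
    | mul_simple_right v i ih =>
      obtain ⟨w, h1, h2⟩ := rp_ex (F := F) p cs i
      have h3 := hv.mul h2.inv
      rw [mul_inv_cancel_right] at h3
      exact (mul_mem_cancel_right (inv_mem (mem_jN.2 ⟨w, fun j => (h1 j).elim (· ▸ one_mem _) (· ▸ wel_mem), rfl⟩))).1
        (ih h3)
  · intro y hy
    obtain ⟨w, h1, rfl⟩ := mem_jN.1 hy
    have h2 : ∀ π : Perm (Fin (m + 1)), jP (m + 1) (inr π) ∈ NN cs (rgdS (m + 1) F p cs).nsys := fun π => by
      have h3 : π ∈ Submonoid.closure (Set.range fun i : Fin m => swap i.castSucc i.succ) :=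
        Perm.mclosure_swap_castSucc_succ m ▸ Submonoid.mem_top π
      induction h3 using Submonoid.closure_induction with
      | mem _ h =>
        obtain ⟨i, rfl⟩ := h
        exact ⟨_, rp_swap p cs (i := i.castSucc) (by simp)⟩
      | one => rw [map_one, map_one]; exact one_mem _
      | mul _ _ _ _ h4 h5 => rw [map_mul, map_mul]; exact mul_mem h4 h5
    rw [← w.inl_left_mul_inr_right, map_mul]
    refine mul_mem (pi_mem_of_mulSingle_mem (H := (NN cs (rgdS (m + 1) F p cs).nsys).comap ((jP (m + 1)).comp inl)) _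
      fun i => ?_) (h2 _)
    have h3 : Phi (Fin.last m) (w.left i) ∈ NN cs (rgdS (m + 1) F p cs).nsys := by
      obtain ⟨u, h | h⟩ := h1 i <;> rw [h]
      · exact ⟨1, rp_of_mem (Phi_tor_mem _ u)⟩
      · rw [map_mul]
        exact ⟨_, (rp_of_mem (Phi_tor_mem _ u)).mul (rp_wel p cs (by simp))⟩
    have h4 := mul_sg1 (inr (swap (Fin.last m) i)) (Fin.last m) (w.left i)
    rw [SemidirectProduct.right_inr, swap_apply_left, SemidirectProduct.left_inr, Pi.one_apply, one_mul, inv_one,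
      mul_one] at h4
    have h5 := mul_mem (h2 (swap (Fin.last m) i)) h3
    rwa [Phi_eq, ← map_mul, h4, map_mul, mul_mem_cancel_right (h2 _)] at h5

end rgd

theorem mem_cs {Y : Type} [Group Y] {Φ : S2 F →* Y} {y : Y} : y ∈ CS Φ ↔ ∀ s, Φ s * y = y * Φ s :=
  ⟨fun h s => h _ ⟨s, rfl⟩, by rintro h _ ⟨s, rfl⟩; exact h s⟩

theorem emb_cs {m : ℕ} (w : Wr (S2 F) (Fin m)) : jP (m + 1) (emb _ m w) ∈ CS (Phi (F := F) (Fin.last m)) :=
  mem_cs.2 fun s => by
    rw [Phi_eq, ← map_mul, ← map_mul, mul_sg1, emb_right, eP_last, emb_last, one_mul, inv_one, mul_one]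

theorem exists_emb {A : Type} [Group A] {m : ℕ} {w : Wr A (Fin (m + 1))} (h1 : w.right (Fin.last m) = Fin.last m)
    (h2 : w.left (Fin.last m) = 1) : ∃ v, emb A m v = w := by
  have h3 : ∀ i : Fin m, w.right i.castSucc ≠ Fin.last m := fun i h =>
    (Fin.castSucc_lt_last i).ne (w.right.injective (h.trans h1.symm))
  refine ⟨⟨fun i => w.left i.castSucc, Equiv.ofBijective (fun i => (w.right i.castSucc).castPred (h3 i))
    (Finite.injective_iff_bijective.1 fun i j h => Fin.castSucc_injective _ (w.right.injective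
      (Fin.castPred_inj.1 h)))⟩, SemidirectProduct.ext (funext fun i => ?_) (Equiv.ext fun i => ?_)⟩
  · induction i using Fin.lastCases with
    | last => rw [emb_last, h2]
    | cast i => rw [emb_cast]
  · induction i using Fin.lastCases with
    | last => rw [emb_right, eP_last, h1]
    | cast i => rw [emb_right, eP_cast]; rfl

theorem cs_cases [Fintype F] (h2 : (2 : F) ≠ 0) {l i : Fin k} (hi : i ≠ l) {w : Wr (S2 F) (Fin k)}
    (h : jP k w ∈ CS (Phi (F := F) l)) : w.right l = l ∧ (w.left l = 1 ∨ w.left l = ng F) := by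
  have key : ∀ s : S2 F, s ≠ 1 → s ≠ ng F → w.right l = l ∧ w.left l * s * (w.left l)⁻¹ = s := fun s h3 h4 => by
    have h5 := mem_cs.1 h s
    rw [Phi_eq, ← map_mul, ← map_mul, mul_sg1, map_mul, map_mul, mul_left_inj] at h5
    rcases jP_eq.1 h5 with e | e
    · have h6 := congrFun (congrArg SemidirectProduct.left e) l
      rw [sg1_self] at h6
      by_cases h7 : l = w.right l
      · rw [← h7, sg1_self] at h6
        exact ⟨h7.symm, h6.symm⟩
      · exact absurd (h6.trans (sg1_ne h7 _)) h3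
    · by_cases h7 : l = w.right l
      · have h6 := congrFun (congrArg SemidirectProduct.left e) i
        rw [mul_dz, ← h7, sg1_ne hi, sg1_ne hi, one_mul] at h6
        exact absurd h6.symm (ng_ne h2)
      · have h6 := congrFun (congrArg SemidirectProduct.left e) l
        rw [mul_dz, sg1_self, sg1_ne h7, one_mul] at h6
        exact absurd h6 h4
  refine ⟨(key (x 1) (fun e => x_not_mem (e ▸ one_mem _)) fun e => x_not_mem ⟨-1, Or.inl e⟩).1,
    center_S2 (mem_center_iff.2 fun s => ?_)⟩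
  by_cases h3 : s = 1
  · rw [h3, one_mul, mul_one]
  by_cases h4 : s = ng F
  · rw [h4, mem_center_iff.1 ng_mem]
  · exact (mul_inv_eq_iff_eq_mul.1 (key s h3 h4).2).symm

theorem range_emb [Fintype F] (h2 : (2 : F) ≠ 0) {m : ℕ} (i : Fin m) {y : PSp (m + 1) F} :
    y ∈ ((jN (m + 1) F).comp (emb _ m)).range ↔ y ∈ (jN (m + 1) F).range ∧ y ∈ CS (Phi (F := F) (Fin.last m)) := by
  refine ⟨?_, ?_⟩
  · rintro ⟨w, rfl⟩
    refine ⟨⟨_, rfl⟩, ?_⟩
    convert emb_cs (mapW _ (N1 F).subtype w) using 1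
    refine congrArg (jP (m + 1)) (SemidirectProduct.ext (funext fun j => ?_) rfl)
    induction j using Fin.lastCases with
    | last => rw [mapW_left, emb_last, emb_last, map_one]
    | cast j => rw [mapW_left, emb_cast, emb_cast, mapW_left]
  · rintro ⟨⟨w, rfl⟩, h⟩
    obtain ⟨h3, h4 | h4⟩ := cs_cases h2 (Fin.castSucc_lt_last i).ne h
    · obtain ⟨v, rfl⟩ := exists_emb (w := w) h3 (Subtype.ext h4)
      exact ⟨v, rfl⟩
    · obtain ⟨v, hv⟩ := exists_emb (w := w * dz _ (z1 F)) ((DFunLike.congr_fun (mul_one w.right) _).trans h3)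
        (Subtype.ext ((congrArg (· * ng F) h4).trans ng_mul_ng))
      exact ⟨v, by rw [MonoidHom.comp_apply, hv, map_mul, jN_eq_one.2 (mem_zpowers _), mul_one]⟩

theorem emb_mem (h2 : (2 : F) ≠ 0) {m : ℕ} (w : Wr (N1 F) (Fin m)) :
    jN (m + 1) F (emb _ m w) ∈ zpowers (Phi (Fin.last m) (ng F)) ↔ w ∈ zpowers (dz (Fin m) (z1 F)) := by
  have hz : z1 F * z1 F = 1 := Subtype.ext ng_mul_ng
  have h0 : ∀ n, dz (Fin n) (z1 F) * dz (Fin n) (z1 F) = 1 := fun n =>
    SemidirectProduct.ext (funext fun _ => hz) (mul_one _)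
  have h1 : ∀ v : Wr (N1 F) (Fin m), jN (m + 1) F (emb _ m v) = 1 → v = 1 := fun v h => by
    rcases (mem_zp2 (h0 _)).1 (jN_eq_one.1 h) with e | e
    · refine SemidirectProduct.ext (funext fun j => ?_) (eP_injective m ?_)
      · rw [← emb_cast, e]
        rfl
      · rw [← emb_right, e]
        exact (map_one _).symm
    · exact absurd (congrArg Subtype.val ((emb_last v).symm.trans (congrFun (congrArg SemidirectProduct.left e) _))).symm
        (ng_ne h2)
  have h3 : jN (m + 1) F (emb _ m (dz _ (z1 F))) = Phi (Fin.last m) (ng F) := by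
    rw [Phi_eq]
    refine jP_eq.2 (Or.inr (SemidirectProduct.ext (funext fun j => ?_) ((map_one (eP m)).trans (mul_one _).symm)))
    induction j using Fin.lastCases with
    | last => rw [mapW_left, emb_last, mul_dz, sg1_self, ng_mul_ng, map_one]
    | cast j => rw [mapW_left, emb_cast, mul_dz, sg1_ne (Fin.castSucc_lt_last j).ne, one_mul]; rfl
  rw [← h3, ← MonoidHom.comp_apply, ← MonoidHom.comp_apply, ← MonoidHom.map_zpowers,
    mem_map_iff_mem ((injective_iff_map_eq_one _).2 h1)]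

theorem sw [Fintype F] (p : ℕ) [Fact p.Prime] [CharP F p] {W : Type} [Group W] [Finite W] {m : ℕ}
    (cs : CoxeterSystem (CoxeterMatrix.B (m + 1)) W) [Fintype (PSp (m + 1) F)] (hm : Even m) :
    Sw (rgdS (m + 1) F p cs) (Phi (F := F) (Fin.last m)) := by
  have h1 : emb (S2 F) m (inr Fin.revPerm) * emb (S2 F) m (inr Fin.revPerm) = 1 := by
    rw [← map_mul, ← map_mul, show (Fin.revPerm : Perm (Fin m)) * Fin.revPerm = 1 from Equiv.ext Fin.rev_rev, map_one,
      map_one]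
  let a : Fin m → Fˣ := fun i => if i < i.rev then -1 else 1
  have h2 : dg (Fin.lastCases 1 a) = emb (S2 F) m (dg a) := SemidirectProduct.ext (funext fun j => by
    induction j using Fin.lastCases with
    | last => rw [emb_last, dg, SemidirectProduct.left_inl, Fin.lastCases_last, map_one]
    | cast j => rw [emb_cast, dg, SemidirectProduct.left_inl, Fin.lastCases_castSucc]; rfl) (map_one (eP m)).symm
  refine ⟨jP _ (emb _ m (inr Fin.revPerm)), ?_, emb_cs _, by rw [← map_mul, h1, map_one]; exact one_mem _,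
    jP _ (emb _ m (dg a)), mem_TT.2 ⟨_, by rw [h2]⟩, emb_cs _, ?_⟩
  · rw [NN_eq]
    refine mem_jN.2 ⟨_, fun j => ?_, rfl⟩
    induction j using Fin.lastCases with
    | last => exact emb_last (A := S2 F) _ ▸ one_mem _
    | cast j => exact emb_cast (A := S2 F) _ j ▸ one_mem _
  · rw [Phi_eq, ← map_inv, inv_eq_of_mul_eq_one_right h1, ← map_mul, ← map_mul, ← map_mul, ← map_mul, ← map_mul]
    refine jP_eq.2 (Or.inr (SemidirectProduct.ext (funext fun j => ?_) ?_))
    · rw [mul_dz, mul_left, sg1_right, inv_one, Perm.one_apply]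
      induction j using Fin.lastCases with
      | last => rw [emb_last, emb_last, sg1_self, mul_one, ng_mul_ng]
      | cast j =>
        rw [emb_cast, emb_cast, sg1_ne (Fin.castSucc_lt_last j).ne, one_mul]
        show 1 * tor (a j.rev) * 1 = tor (a j) * tor (-1)
        rw [one_mul, mul_one, ← map_mul]
        refine congrArg tor ?_
        simp only [a, Fin.rev_rev]
        rcases lt_or_gt_of_ne (rev_ne hm j) with h | h
        · rw [if_pos h, if_neg h.not_gt, one_mul]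
        · rw [if_pos h, if_neg h.not_gt, neg_mul_neg, one_mul]
    · show eP m (Fin.revPerm * 1 * Fin.revPerm) = 1 * eP m 1 * 1
      rw [mul_one, mul_one, one_mul]
      exact congrArg _ (Equiv.ext Fin.rev_rev)

/-! ### field automorphisms -/

section fld

variable (σ : F ≃+* F)

theorem frob_b (z : Fin k × Bool) : frobPerm k σ ((frame k F).b z) = (frame k F).b z := by
  obtain ⟨i, b⟩ := z
  funext j
  cases b <;> simp [frobPerm_apply, e, f, Pi.single_apply]

theorem frob_h (v : Fin k ⊕ Fin k → F) (z : Fin k × Bool) :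
    (form k F).h (frobPerm k σ v) ((frame k F).b z) = σ ((form k F).h v ((frame k F).b z)) := by
  conv_lhs => rw [← frob_b σ z]
  exact ((isSemi_frobPerm σ).2.2 _ _).trans (one_mul _)

theorem fld_X {y z : Fin k × Bool} (h : y.1 ≠ z.1) (t : F) :
    fld k F σ (toPSp ⟨(frame k F).X y z t, (frame k F).isIso_X _ _ _⟩) =
      toPSp ⟨(frame k F).X y z (σ t), (frame k F).isIso_X _ _ _⟩ := by
  refine fld_toPSp σ fun v => funext fun j => ?_
  have h1 := fun z => congrFun (frob_b (k := k) σ z) j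
  have h2 : σ ((frame k F).η z) = (frame k F).η z := by
    unfold WittFrame.Frame.η
    split_ifs <;> simp
  simp only [frobPerm_apply] at h1
  show (frame k F).X y z (σ t) _ j = σ ((frame k F).X y z t v j)
  rw [X_apply _ h, X_apply _ h, frob_h, frob_h]
  simp only [Pi.sub_apply, Pi.add_apply, Pi.smul_apply, smul_eq_mul, map_sub, map_add, map_mul, h1, h2, frobPerm_apply,
    WittFrame.Frame.sc, form_σ, form_ε, map_neg, map_inv₀, map_one]

theorem fld_Z (z : Fin k × Bool) (c : F) (h1 : (frame k F).Z z (adm c) ∈ isos (form k F))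
    (h2 : (frame k F).Z z (adm (σ c)) ∈ isos (form k F)) : fld k F σ (toPSp ⟨_, h1⟩) = toPSp ⟨_, h2⟩ := by
  refine fld_toPSp σ fun v => funext fun j => ?_
  have h3 := congrFun (frob_b (k := k) σ z) j
  have h4 : ∀ c : F, (adm c : (frame k F).Adm).w = 0 := fun _ => rfl
  have h5 : ∀ c : F, (adm c : (frame k F).Adm).c = c := fun _ => rfl
  simp only [frobPerm_apply] at h3
  show (frame k F).Z z (adm (σ c)) _ j = σ ((frame k F).Z z (adm c) v j)
  rw [Z_apply, Z_apply, frob_h, h4, h4, h5, h5, Siegel.HForm.zero_right, Siegel.HForm.zero_right]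
  simp only [Pi.sub_apply, Pi.add_apply, Pi.smul_apply, smul_eq_mul, map_add, map_mul, h3, frobPerm_apply,
    mul_zero, zero_mul, Pi.zero_apply, add_zero, sub_zero]

theorem fld_mapX (y : Fin k → ℤ) (u : PSp k F) (hu : u ∈ WittModel.X (KInstSp.model k F) y) :
    fld k F σ u ∈ WittModel.X (KInstSp.model k F) y := by
  obtain ⟨g, hg, h, rfl⟩ := (WittModel.mem_X _).1 hu
  by_cases h0 : ∃ a b, TypeC.Ok a b ∧ TypeC.ee y = TypeC.wt a + TypeC.wt b
  · obtain ⟨a, b, h1, h2⟩ := h0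
    refine (WittModel.mem_X _).2 ?_
    rw [rg_eq _ h1 h2] at h ⊢
    rcases h1 with h1 | rfl
    · rw [PG_ne _ h1] at h ⊢
      obtain ⟨t, rfl⟩ := h
      exact ⟨_, _, ⟨_, rfl⟩, fld_X σ h1 t⟩
    · rw [PG_self] at h ⊢
      obtain ⟨q, rfl⟩ := h
      obtain ⟨c, rfl⟩ : ∃ c, q = adm c := ⟨_, eq_adm q⟩
      exact ⟨_, (KInstSp.model k F).hZ _ _, ⟨_, rfl⟩, fld_Z σ a c hg _⟩
  · have h1 : rg (frame k F) y ≤ ⊥ := iSup_le fun q => (h0 ⟨_, _, q.2⟩).elim
    obtain rfl : g = 1 := h1 h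
    rwa [show (KInstSp.model k F).φ ⟨1, hg⟩ = 1 from map_one _, map_one, ← map_one (KInstSp.model k F).φ]

theorem fld_Phi (l : Fin k) (s : S2 F) : fld k F σ (Phi l s) = Phi l (f2 F σ s) := by
  rw [Phi_eq, Phi_eq, fld_jP]
  refine congrArg (jP k) (SemidirectProduct.ext (funext fun i => ?_) rfl)
  rw [mapW_left]
  by_cases h : i = l
  · rw [h, sg1_self, sg1_self]
    rfl
  · rw [sg1_ne h, sg1_ne h, map_one]

theorem xs_ne {i : Fin k} (hi : (i : ℕ) + 1 < k) : xs i (1 : F) ≠ 1 := fun h => by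
  obtain ⟨c, -, hc⟩ := exists_smul_of_toPSp_eq_one h
  have h1 := congrFun ((X_apply_neg _ (H69.OQ.nx_ne hi) (1 : F)).symm.trans (hc _)) (.inr i)
  have h2 : WittFrame.neg (TypeC.nx i) = (⟨i + 1, hi⟩, true) := by unfold TypeC.nx; rw [dif_pos hi]; rfl
  rw [h2] at h1
  simp [e, Fin.ext_iff] at h1

theorem av_fld [Fintype F] (p : ℕ) [Fact p.Prime] [CharP F p] {W : Type} [Group W] [Finite W]
    (cs : CoxeterSystem (CoxeterMatrix.B k) W) [Finite (PSp k F)] (l : Fin k)
    (h : ∀ χ, OI (S2 F) χ → ∀ s, χ (f2 F σ s) = χ s) : Av (rgdS k F p cs) (Phi l) (fld k F σ) where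
  sqT t ht := by
    obtain ⟨a, rfl⟩ := mem_TT.1 ht
    have h1 : ∀ u : Fˣ, ∃ r, u⁻¹ * Units.map σ.toMonoidHom u = r * r := fun u => by
      by_cases h2 : IsSquare u
      · exact h2.inv.mul (h2.map _)
      · refine sq_cases (by rwa [isSquare_inv]) fun h3 => h2 ?_
        have h4 := h3.map (Units.map σ.symm.toMonoidHom)
        rwa [show Units.map σ.symm.toMonoidHom (Units.map σ.toMonoidHom u) = u from Units.ext (σ.symm_apply_apply _)] at h4
    choose r hr using h1
    refine ⟨_, mem_TT.2 ⟨fun i => r (a i), rfl⟩, ?_⟩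
    rw [fld_jP, ← map_mul, ← map_mul]
    refine congrArg (jP k) (SemidirectProduct.ext (funext fun i => ?_) (by simp [dg, mapW_right]))
    show f2 F σ (tor (a i)) = tor (a i) * (tor (r (a i)) * tor (r (a i)))
    rw [← map_mul, ← hr, ← map_mul, mul_inv_cancel_left]
    exact ext4 rfl (map_zero σ) (map_zero σ) rfl
  mapX := fld_mapX σ
  mapn i := by
    obtain ⟨w, h1, h2⟩ := rp_ex (F := F) p cs i
    refine ⟨_, h2, (fld_jP σ w).trans (congrArg (jP k) (SemidirectProduct.ext (funext fun j => ?_) rfl))⟩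
    rw [mapW_left]
    rcases h1 j with e | e <;> rw [e]
    · exact map_one _
    · exact ext4 (map_zero σ) (map_one σ) ((map_neg σ 1).trans (congrArg _ (map_one σ))) (map_zero σ)
  pt i := by
    by_cases hi : (i : ℕ) + 1 < k
    · refine ⟨fun a ha b hb => ?_, _, (mem_X_short hi _).2 ⟨1, rfl⟩, xs_ne hi, ?_⟩
      · obtain ⟨s, rfl⟩ := (mem_X_short hi a).1 ha
        obtain ⟨t, rfl⟩ := (mem_X_short hi b).1 hb
        rw [← xs_add, ← xs_add, add_comm]
      · exact (fld_X σ (H69.OQ.nx_ne hi) 1).trans (by rw [map_one]; rfl)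
    · refine ⟨fun a ha b hb => ?_, _, (mem_X_last hi _).2 ⟨1, rfl⟩, fun e => one_ne_zero (Phi_x_inj i 1 e), ?_⟩
      · obtain ⟨s, rfl⟩ := (mem_X_last hi a).1 ha
        obtain ⟨t, rfl⟩ := (mem_X_last hi b).1 hb
        rw [← map_mul, ← map_mul]
        exact congrArg _ (((data F).X_add s t).symm.trans ((congrArg x (add_comm s t)).trans ((data F).X_add t s)))
      · exact (fld_Phi σ i _).trans (congrArg _ (ext4 (map_one σ) (map_one σ) (map_zero σ) (map_one σ)))
  sl2 := ⟨f2 F σ, fld_Phi σ l, h⟩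

end fld

end Cfsg.Agent.MK.P
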