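import Cfsg.Agent.MK.P.GD2

/-!
# MK-P: the global side (helper36)

**`gs : W1 → W2 → S4 → GS`**.
-/

set_option autoImplicit false
set_option linter.unusedSectionVars false

namespace Cfsg.Agent.MK.P

open Cfsg Subgroup Equiv Cfsg.Agent.MK.T Cfsg.Agent.ODD Cfsg.Agent.ODD.PS.C3 Cfsg.Agent.ODD.C3

theorem kk_kw {A ι Y : Type} [Group A] [Finite A] [Fintype ι] [Group Y] [Finite Y] (h1 : W1) {z : A} (hz : z ∈ center A)
    (ih : IH (Nat.card Y)) (f : Wr A ι →* Y) (hf : f.range ≠ ⊤) {Z : Subgroup Y}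
    (h : ∀ w, f w ∈ Z ↔ w ∈ zpowers (dz ι z)) (T : Sylow 2 (Perm ι)) : kk f.range Z 1 = kw z (T : Subgroup (Perm ι)) := by
  have := finite_Wr (A := A) (ι := ι)
  rw [← h1 A ι z T _ hz ih, kw, WT, comap_top, MonoidHom.range_eq_map]
  · exact kk_map f (fun w _ => h w) fun _ _ _ => rfl
  · refine (index_antitone (h := show f.ker ≤ _ from fun w hw => (h w).1 (hw ▸ one_mem Z))).trans_lt ?_
    rw [index_ker]
    exact (card_le_card_group _).lt_of_ne fun e => hf (eq_top_of_card_eq _ e)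

/-- **the global side** -/
theorem gs (h1 : W1) (h2 : W2) (h4 : S4) : GS := by
  intro F _ _ k hq hk
  obtain ⟨m, rfl⟩ : ∃ m, k = m + 1 := ⟨k - 1, by omega⟩
  have hF : Odd (Fintype.card F) := by rw [Nat.odd_iff]; omega
  obtain ⟨p, _, _, hp2, -⟩ := PW.exists_char F hF
  have := PW.finB (m + 1)
  have := PW.finB m
  have : Finite (PSp (m + 1) F) := inferInstance
  have := Fintype.ofFinite (PSp (m + 1) F)
  obtain ⟨γ, hγ⟩ := IsCyclic.exists_generator (α := Fˣ)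
  have S := sp_Phi p (CoxeterMatrix.B (m + 1)).toCoxeterSystem (F := F) hγ
  have hP := parS m F _ (CoxeterMatrix.B (m + 1)).toCoxeterSystem hq
  have q := q4 hq
  have t2 : (2 : F) ≠ 0 := fun h => hp2 ((Nat.prime_dvd_prime_iff_eq Fact.out Nat.prime_two).1
    ((CharP.cast_eq_zero_iff F p 2).1 (by exact_mod_cast h)))
  refine ⟨fun ih => ?_, fun σ χ hχ => fix_av S hP hq (av_fld σ p _ _ fun ψ hψ => ((h4 F hq).2 ψ hψ).2 σ) hχ.1 hχ.2⟩
  have a1 : ∀ T : Sylow 2 (Perm (Fin (m + 1))), k0 (jN (m + 1) F).range = kw (z1 F) (T : Subgroup (Perm (Fin (m + 1)))) :=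
    fun T => (kk_bot _ (l := 1) rfl).symm.trans (kk_kw h1 q.cen ih _ (jN_ne 0) (fun _ => jN_eq_one) T)
  rcases Nat.even_or_odd (m + 1) with hm | hm
  · obtain ⟨T, hT⟩ := exists_even hm
    exact ⟨T, by rw [k0_even S hP Fact.out hp2 hm, NN_eq, a1 T, kw_even q h2 T.isPGroup' hT]⟩
  · have hm' : Even m := by simpa [Nat.odd_add_one] using hm
    obtain ⟨T, hT⟩ := exists_even hm'
    obtain ⟨T', hT'⟩ := exists_odd hm' T
    have i : Fin m := ⟨0, by omega⟩
    have a2 : N2 S.gd = ((jN (m + 1) F).comp (emb _ m)).range :=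
      Subgroup.ext fun y => by rw [mem_N2, NN_eq, range_emb t2 i]
    have a3 := kk_kw h1 q.cen ih ((jN (m + 1) F).comp (emb _ m)) (fun e => jN_ne (F := F) (0 : Fin (m + 1))
      (eq_top_iff.2 fun y _ => ((range_emb t2 i).1 (e ▸ mem_top y)).1)) (emb_mem t2) T
    exact ⟨T', by rw [k0_odd S hP Fact.out hp2 hq hm (sw p _ hm') (Phi_injective t2 (Fin.castSucc_lt_last i).ne)
      fun χ hχ => ((h4 F hq).2 χ hχ).1, NN_eq, a1 T', a2, a3, hT', kw_odd q h2 T.isPGroup' hT]⟩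

end Cfsg.Agent.MK.P
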