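import Cfsg.Agent.MK.P.Defs
import Cfsg.Agent.MK.H.Cnt
import Cfsg.Agent.MK.E.Ext
import Cfsg.Agent.H793.PC.Pi
import Cfsg.Agent.H624.MGroupA
import Cfsg.Agent.H94.Matching

/-!
# MK-P: wreath products (helper75)

* `Ext2 i p` : an extension of `B` by a `2`-group `T`; `res_oi`, `lin`, `lin_inj`;
* `w1`, `w2`, `w3`.
-/

set_option autoImplicit false
set_option linter.unusedSectionVars false

namespace Cfsg.Agent.MK.P

open Cfsg Subgroup Equiv Cfsg.Agent.MK.T Cfsg.Agent.Characters.Core Cfsg.Agent.ODD.Red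

/-! ### extensions by `2`-groups -/

section ext

variable {B G T : Type} [Group B] [Group G] [Group T]

/-- an exact sequence with a `2`-group as the quotient -/
structure Ext2 (i : B →* G) (p : G →* T) : Prop where
  inj : Function.Injective i
  surj : Function.Surjective p
  ker : p.ker = i.range
  two : IsPGroup 2 T

namespace Ext2

variable {i : B →* G} {p : G →* T} (h : Ext2 i p) [Finite G]

include h

theorem p_i (b : B) : p (i b) = 1 := by
  have h1 : i b ∈ p.ker := h.ker ▸ ⟨b, rfl⟩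
  exact h1

theorem res_oi {ψ : G → ℂ} (hψ : OI G ψ) : OI B fun b => ψ (i b) := by
  have := Finite.of_injective _ h.inj
  have := Finite.of_surjective _ h.surj
  have := two_prime
  obtain ⟨θ, hθ, ho⟩ := H672.exists_under (f := i) hψ.1
  obtain ⟨k, hk⟩ := IsPGroup.iff_card.1 h.two
  have h1 := H672.comp_eq_of_pindex i h.inj (h.ker ▸ MonoidHom.normal_ker p) Nat.prime_two (k := k)
    (by rw [← h.ker, index_ker, MonoidHom.range_eq_top.2 h.surj, card_top, hk]) hψ.1 hψ.2.not_two_dvd_nat hθ ho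
  refine ⟨(show (fun b => ψ (i b)) = θ from h1) ▸ hθ, ?_⟩
  rw [charDegree_congr (χ := fun b => ψ (i b)) (ψ := ψ) (congrArg ψ (map_one i))]
  exact hψ.2

theorem res_ker {χ : G → ℂ} (hχ : IsIrrCharacter B fun b => χ (i b)) : IsIrrCharacter p.ker fun n : p.ker => χ n := by
  let e : p.ker ≃* B := (MulEquiv.subgroupCongr h.ker).trans (MonoidHom.ofInjective h.inj).symm
  have h1 := isIrr_comp' e.toMonoidHom e.surjective hχ
  refine (funext fun n => ?_ : (fun n => χ (i (e.toMonoidHom n))) = fun n : p.ker => χ n) ▸ h1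
  exact congrArg χ (MonoidHom.apply_ofInjective_symm h.inj _)

theorem lin {χ ψ : G → ℂ} (hχ : OI G χ) (hψ : IsIrrCharacter G ψ) (e : ∀ b, ψ (i b) = χ (i b)) :
    ∃ l : T →* ℂˣ, ∀ g, ψ g = l (p g) * χ g := by
  obtain ⟨l, h1, h2⟩ := exists_lin p.ker hχ.1 (h.res_ker (h.res_oi hχ).1) hψ fun n => by
    obtain ⟨b, hb⟩ := h.ker.le n.2
    rw [← hb, e]
  refine ⟨p.liftOfSurjective h.surj ⟨l, h1⟩, fun g => ?_⟩
  rw [h2, MonoidHom.liftOfSurjective, MonoidHom.liftOfRightInverse_comp_apply]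

theorem lin_inj {χ : G → ℂ} (hχ : OI G χ) {l l' : T →* ℂˣ} (e : ∀ g, l (p g) * χ g = l' (p g) * χ g) : l = l' := by
  refine MonoidHom.ext fun t => Units.ext ?_
  obtain ⟨g, rfl⟩ := h.surj t
  refine gall_inj p.ker hχ.1 (h.res_ker (h.res_oi hχ).1) (η := fun g => l (p g)) (η' := fun g => l' (p g))
    (fun n g => ?_) (fun n g => ?_) (fun g => ?_) g
  · rw [map_mul, show p n = 1 from n.2, one_mul]
  · rw [map_mul, show p n = 1 from n.2, one_mul]
  · rw [mul_comm, e, mul_comm]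

omit h in
theorem oi_lin {χ : G → ℂ} (hχ : OI G χ) (l : G →* ℂˣ) : OI G fun g => l g * χ g :=
  ⟨isIrr_lin_mul l hχ.1, by
    rw [charDegree_congr (ψ := χ) (by rw [map_one, Units.val_one, one_mul])]
    exact hχ.2⟩

/-- an automorphism of odd order which acts trivially on `T` and fixes the restriction -/
theorem fix (δ : MulAut G) {k : ℕ} (hk : Odd k) (h1 : δ ^ k = 1) (hp : ∀ g, p (δ g) = p g) {ψ : G → ℂ} (hψ : OI G ψ)
    (hb : ∀ b, ψ (δ (i b)) = ψ (i b)) (g : G) : ψ (δ g) = ψ g := by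
  obtain ⟨l, hl⟩ := h.lin hψ (oi_equiv δ hψ).1 hb
  have h2 : ∀ (n : ℕ) g, ψ ((δ ^ n) g) = (l ^ n) (p g) * ψ g := fun n => by
    induction n with
    | zero => intro g; simp
    | succ n ih =>
      intro g
      rw [pow_succ, MulAut.mul_apply, ih, hp, hl, MonoidHom.pow_apply, MonoidHom.pow_apply, pow_succ, Units.val_mul,
        mul_assoc]
  have h3 : l ^ k = 1 := h.lin_inj hψ fun g => by
    rw [← h2, h1]
    simp
  obtain ⟨m, hm⟩ := h.two (p g)
  have h4 : l (p g) = 1 := by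
    have a1 : l (p g) ^ k = 1 := by rw [← MonoidHom.pow_apply, h3]; rfl
    have a2 : l (p g) ^ 2 ^ m = 1 := by rw [← map_pow, hm, map_one]
    have a3 := pow_gcd_eq_one.2 ⟨a1, a2⟩
    rwa [Nat.Coprime.gcd_eq_one (Nat.Coprime.pow_right m (Nat.coprime_two_right.2 hk)), pow_one] at a3
  rw [hl, h4, Units.val_one, one_mul]

end Ext2

end ext

/-! ### wreath products -/

section wr

variable {A ι : Type} [Group A] (T : Subgroup (Perm ι))

/-- the base group -/
def ib : (ι → A) →* WT A T := SemidirectProduct.inl.codRestrict _ fun _ => T.one_mem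

/-- the top group -/
def pr : WT A T →* T := (SemidirectProduct.rightHom.comp (WT A T).subtype).codRestrict _ fun w => w.2

/-- the section -/
def sc : T →* WT A T := (SemidirectProduct.inr.comp T.subtype).codRestrict _ fun t => t.2

variable {T}

theorem ext2 (h : IsPGroup 2 T) : Ext2 (ib T : (ι → A) →* _) (pr T) :=
  ⟨fun _ _ e => SemidirectProduct.inl_injective (congrArg Subtype.val e), fun t => ⟨sc T t, rfl⟩,
    le_antisymm (fun w hw => ⟨w.1.left, Subtype.ext (SemidirectProduct.ext rfl (congrArg Subtype.val hw).symm)⟩)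
      (by rintro _ ⟨b, rfl⟩; rfl), h⟩

theorem sc_conj (t : T) (b : ι → A) : sc T t * ib T b * (sc T t)⁻¹ = ib T fun i => b (t.1⁻¹ i) :=
  Subtype.ext (by
    change SemidirectProduct.inr t.1 * SemidirectProduct.inl b * (SemidirectProduct.inr t.1 : Wr A ι)⁻¹ = _
    rw [← map_inv, ← SemidirectProduct.inl_aut]
    rfl)

variable [Finite A] [Fintype ι]

theorem oi_pi {θ : ι → A → ℂ} (h : ∀ i, IsIrrCharacter A (θ i)) :
    OI (ι → A) (fun b => ∏ i, θ i (b i)) ↔ ∀ i, OI A (θ i) := by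
  have h1 : charDegree (fun b : ι → A => ∏ i, θ i (b i)) = ∏ i, charDegree (θ i) :=
    charDegree_of (by
      rw [Nat.cast_prod]
      exact Finset.prod_congr rfl fun i _ => apply_one (isIrr_isCharacter (h i)))
  rw [OI, h1]
  exact ⟨fun a i => ⟨h i, a.2.of_dvd_nat (Finset.dvd_prod_of_mem _ (Finset.mem_univ i))⟩,
    fun a => ⟨H793.PC.isIrr_pi h, Finset.prod_induction _ Odd (fun _ _ => Odd.mul) odd_one fun i _ => (a i).2⟩⟩

theorem exists_res (h : IsPGroup 2 T) {ψ : WT A T → ℂ} (hψ : OI (WT A T) ψ) :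
    ∃ θ : ι → {χ : A → ℂ // OI A χ}, Iv T θ ∧ ∀ b, ψ (ib T b) = ∏ i, (θ i).1 (b i) := by
  classical
  have := finite_Wr (A := A) (ι := ι)
  have h1 := (ext2 h).res_oi hψ
  obtain ⟨θ, h2, h3⟩ := H624.MGroup.exists_pi _ h1.1
  have h4 := (oi_pi h2).1 (funext h3 ▸ h1)
  refine ⟨fun i => ⟨θ i, h4 i⟩, fun t ht i => Subtype.ext ?_, h3⟩
  refine congrFun (H663.GmnStep.pi_unique (f := fun i => θ (t i)) (g := θ) (fun i => h2 _) h2 fun b => ?_) i
  rw [← h3, ← isIrr_isClassFunction hψ.1 (ib T b) (sc T ⟨t, ht⟩), sc_conj, h3]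
  exact Fintype.prod_equiv t _ _ fun i => by simp

theorem exists_ext (h : IsPGroup 2 T) {θ : ι → {χ : A → ℂ // OI A χ}} (hθ : Iv T θ) :
    ∃ χ : WT A T → ℂ, OI (WT A T) χ ∧ ∀ b, χ (ib T b) = ∏ i, (θ i).1 (b i) := by
  have := two_prime
  have h1 := (oi_pi fun i => (θ i).2.1).2 fun i => (θ i).2
  obtain ⟨d, hd, h2⟩ := E.oi_deg h1
  obtain ⟨k, hk⟩ := IsPGroup.iff_card.1 h
  obtain ⟨Θ, h3, h4⟩ := E.exS_coprime (φ := (mulAutArrow : Perm ι →* MulAut (ι → A)).comp T.subtype) h1.1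
    (fun t b => (Fintype.prod_equiv t.1 _ _ fun i => by
      rw [hθ t t.2]
      change _ = (θ i).1 (b (t.1⁻¹ (t.1 i)))
      simp).symm) h2 (by rw [hk]; exact (Nat.coprime_two_left.2 hd).pow_left k)
  let f : WT A T →* (ι → A) ⋊[(mulAutArrow : Perm ι →* MulAut (ι → A)).comp T.subtype] T :=
    MonoidHom.mk' (fun w => ⟨w.1.left, pr T w⟩) fun _ _ => rfl
  have h5 : ∀ b, Θ (f (ib T b)) = ∏ i, (θ i).1 (b i) := h4
  refine ⟨fun w => Θ (f w), ⟨E.isIrr_of_comp (ib T) (isCharacter_comp' f h3) (funext h5 ▸ h1.1), ?_⟩, h5⟩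
  rw [charDegree_of (n := d) (by rw [← map_one (ib T), h5, ← h2])]
  exact hd

theorem ov_iff {z : A} {ψ : WT A T → ℂ} (hψ : IsCharacter _ ψ) :
    Ov (WT A T) (zpowers (dz ι z)) 1 ψ ↔ ψ (ib T fun _ => z) = ψ 1 := by
  have := finite_Wr (A := A) (ι := ι)
  refine ⟨fun h => (h _ (mem_zpowers _)).trans (one_mul _), fun h w hw => ?_⟩
  obtain ⟨n, hn⟩ := mem_powers_iff_mem_zpowers.2 hw
  have h1 : w = (ib T fun _ => z) ^ n := Subtype.ext hn.symm
  rw [h1, Pi.one_apply, one_mul]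
  clear h1 hn
  induction n with
  | zero => rw [pow_zero]
  | succ n ih => rw [pow_succ', apply_mul_of_ker hψ h, ih]

end wr

theorem w1 : W1 := by
  classical
  intro A ι _ _ _ z T n hz ih hn
  have := finite_Wr (A := A) (ι := ι)
  have := two_prime
  obtain ⟨P, -, h1, h2, h3⟩ := H.exists_syl (H := WT A (T : Subgroup (Perm ι))) bot_le IsPGroup.of_bot
  have h0 : WT A (⊤ : Subgroup (Perm ι)) = ⊤ := comap_top _
  have hs := SemidirectProduct.rightHom_surjective (N := ι → A) (G := Perm ι) (φ := mulAutArrow)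
  have h4 : Odd (T : Subgroup (Perm ι)).index := Nat.odd_iff.2 (Nat.two_dvd_ne_zero.1 T.not_dvd_index)
  have h5 : Odd P.index := by
    rw [← relIndex_mul_index h1, WT, index_comap_of_surjective _ hs]
    exact h3.mul h4
  have h6 : P.map SemidirectProduct.rightHom = T := by
    refine le_antisymm (map_le_iff_le_comap.2 h1) (H.eq_of_odd (K := ⊤) ?_ (map_le_iff_le_comap.2 h1) le_top T.2)
    rw [relIndex_top_right]
    exact h5.of_dvd_nat (index_map_dvd _ hs)
  rw [kw, kw, h0]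
  refine ih.sub (P := P) (zpowers_le.2 (one_mem (T : Subgroup (Perm ι)))) le_top
    (fun x hx k _ => mem_center_iff.1 (zpowers_le.2 (dz_mem hz) hx) k) (by rwa [relIndex_top_right]) le_top h2
    (by rwa [relIndex_top_right]) (fun w hw => H94.Syl2Sym.sym_selfNorm T ?_) _
  rw [← h6]
  exact le_normalizer_map _ (mem_map_of_mem _ hw.2)

theorem w2 : W2 := by
  classical
  intro A ι _ _ _ z T hT
  have := finite_Wr (A := A) (ι := ι)
  have h := ext2 (A := A) hT
  rw [ab_eq_card, ← Nat.card_prod]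
  choose χ h1 h2 using fun θ : {θ : ι → {χ : A → ℂ // OI A χ} // Iv T θ ∧ ∏ i, (θ i).1 z = ∏ i, (θ i).1 1} =>
    exists_ext hT θ.2.1
  have h3 : ∀ θ (l : T →* ℂˣ) b, l (pr T (ib T b)) * χ θ (ib T b) = ∏ i, (θ.1 i).1 (b i) := fun θ l b => by
    rw [h.p_i, map_one, Units.val_one, one_mul, h2]
  refine (Nat.card_eq_of_bijective (fun u => (⟨fun g => u.2 (pr T g) * χ u.1 g, Ext2.oi_lin (h1 u.1) (u.2.comp (pr T)),
    (ov_iff (isIrr_isCharacter (Ext2.oi_lin (h1 u.1) (u.2.comp (pr T))).1)).2 ?_⟩ :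
      {ψ : WT A T → ℂ // OI _ ψ ∧ Ov (WT A T) (zpowers (dz ι z)) 1 ψ})) ⟨?_, ?_⟩).symm
  · rw [← map_one (ib T)]
    exact (h3 _ _ _).trans (u.1.2.2.trans (h3 _ _ 1).symm)
  · rintro ⟨θ, l⟩ ⟨θ', l'⟩ e
    have e1 := congrFun (congrArg Subtype.val e)
    obtain rfl : θ = θ' := by
      have e2 := H663.GmnStep.pi_unique (f := fun i => (θ.1 i).1) (g := fun i => (θ'.1 i).1) (fun i => (θ.1 i).2.1)
        (fun i => (θ'.1 i).2.1) fun b => (h3 θ l b).symm.trans ((e1 _).trans (h3 θ' l' b))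
      exact Subtype.ext (funext fun i => Subtype.ext (congrFun e2 i))
    exact Prod.ext rfl (h.lin_inj (h1 θ) e1)
  · rintro ⟨ψ, hψ, ho⟩
    obtain ⟨θ, a1, a2⟩ := exists_res hT hψ
    have a3 : ∏ i, (θ i).1 z = ∏ i, (θ i).1 1 := by
      rw [← a2 fun _ => z, (ov_iff (isIrr_isCharacter hψ.1)).1 ho, ← map_one (ib T), a2]
      rfl
    obtain ⟨l, hl⟩ := h.lin (h1 ⟨θ, a1, a3⟩) hψ.1 fun b => (a2 b).trans (h2 ⟨θ, a1, a3⟩ b).symm
    exact ⟨(⟨θ, a1, a3⟩, l), Subtype.ext (funext fun g => (hl g).symm)⟩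

/-- the action of automorphisms of `A` -/
def actW (A : Type) [Group A] {ι : Type} (T : Subgroup (Perm ι)) : MulAut A →* MulAut (WT A T) where
  toFun δ :=
    { toFun := fun w => ⟨mapW ι δ.toMonoidHom w, w.2⟩
      invFun := fun w => ⟨mapW ι δ.symm.toMonoidHom w, w.2⟩
      left_inv := fun _ => Subtype.ext (SemidirectProduct.ext (funext fun _ => δ.symm_apply_apply _) rfl)
      right_inv := fun _ => Subtype.ext (SemidirectProduct.ext (funext fun _ => δ.apply_symm_apply _) rfl)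
      map_mul' := fun _ _ => Subtype.ext (map_mul _ _ _) }
  map_one' := rfl
  map_mul' _ _ := rfl

theorem w3 : W3 := by
  intro A ι _ _ _ T δ k hT hk h1 h2 ψ hψ y y' e
  have := finite_Wr (A := A) (ι := ι)
  obtain ⟨θ, -, a2⟩ := exists_res hT hψ
  rw [show y' = actW A T δ y from Subtype.ext e]
  refine (ext2 hT).fix (actW A T δ) hk (by rw [← map_pow, h1, map_one]) (fun _ => rfl) hψ (fun b => ?_) y
  rw [show actW A T δ (ib T b) = ib T fun i => δ (b i) from rfl, a2, a2]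
  exact Finset.prod_congr rfl fun i _ => h2 _ (θ i).2 _

end Cfsg.Agent.MK.P
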